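import Mathlib

/-!
S3211 farm (helper26): common context.

`Ctx G` bundles the hypotheses of S3211 with the three facts about SL(2,q), q odd,
that the argument uses (transported to `L₁`, `L₂`):
* `inv`  : the only elements of square 1 are 1 and `j`;
* `conj` : the elements of square `j` form one conjugacy class of `L₁`;
* `sqrt` : an element of square `j` has at most two square roots, `x` and `x * j`.
-/

set_option autoImplicit false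

namespace Cfsg.Agent.Lib.Helper26.FW

structure Ctx (G : Type*) [Group G] where
  L₁ : Subgroup G
  L₂ : Subgroup G
  j : G
  n : G
  hj : orderOf j = 2
  hc : ∀ x ∈ L₁, ∀ y ∈ L₂, x * y = y * x
  hm : L₁ ⊓ L₂ = Subgroup.zpowers j
  hle : L₁ ⊔ L₂ ≤ Subgroup.centralizer ({j} : Set G)
  hi : (L₁ ⊔ L₂).relIndex (Subgroup.centralizer ({j} : Set G)) = 2
  hn : n ∈ Subgroup.centralizer ({j} : Set G)
  hn2 : n ^ 2 = j
  hswap : L₁.map (MulAut.conj n).toMonoidHom = L₂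
  inv₁ : ∀ x ∈ L₁, x ^ 2 = 1 → x = 1 ∨ x = j
  inv₂ : ∀ x ∈ L₂, x ^ 2 = 1 → x = 1 ∨ x = j
  conj₁ : ∀ x ∈ L₁, ∀ y ∈ L₁, x ^ 2 = j → y ^ 2 = j → ∃ g ∈ L₁, g * x * g⁻¹ = y
  sqrt₁ : ∀ a ∈ L₁, ∀ x ∈ L₁, ∀ x' ∈ L₁, a ^ 2 = j → x ^ 2 = a → x' ^ 2 = a →
    x' = x ∨ x' = x * j
  sqrt₂ : ∀ a ∈ L₂, ∀ x ∈ L₂, ∀ x' ∈ L₂, a ^ 2 = j → x ^ 2 = a → x' ^ 2 = a →
    x' = x ∨ x' = x * j

variable {G : Type*} [Group G] (c : Ctx G)

/-- The centralizer `C = C_G(j)`. -/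
abbrev Ctx.C : Subgroup G := Subgroup.centralizer ({c.j} : Set G)

/-- `M = L₁ L₂`. -/
abbrev Ctx.M : Subgroup G := c.L₁ ⊔ c.L₂

/-- `C_{L₁}(a)` as a set. -/
def Ctx.cent₁ (a : G) : Set G := {x | x ∈ c.L₁ ∧ x * a = a * x}

/-- square roots of `j` commuting with `z'`. -/
def Ctx.rootsJ (z' : G) : Set G := {w | w ^ 2 = c.j ∧ w * z' = z' * w}

/-- square roots of `z` commuting with `j`. -/
def Ctx.rootsZ (z : G) : Set G := {w | w * c.j = c.j * w ∧ w ^ 2 = z}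

theorem Ctx.mem_C {w : G} : w ∈ c.C ↔ w * c.j = c.j * w := by
  rw [Ctx.C, Subgroup.mem_centralizer_iff]
  constructor
  · intro h; exact (h c.j rfl).symm
  · intro h x hx; rw [Set.mem_singleton_iff] at hx; subst hx; exact h.symm

theorem Ctx.j_sq : c.j ^ 2 = 1 := by
  rw [← c.hj]; exact pow_orderOf_eq_one c.j

theorem Ctx.j_ne_one : c.j ≠ 1 := by
  intro h
  have := c.hj
  rw [h, orderOf_one] at this
  omega

theorem Ctx.j_mul_j : c.j * c.j = 1 := by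
  have := c.j_sq; rwa [pow_two] at this

theorem Ctx.j_inv : c.j⁻¹ = c.j := by
  rw [inv_eq_iff_mul_eq_one]; exact c.j_mul_j

theorem Ctx.j_mem₁ : c.j ∈ c.L₁ := by
  have : c.j ∈ c.L₁ ⊓ c.L₂ := by rw [c.hm]; exact Subgroup.mem_zpowers c.j
  exact this.1

theorem Ctx.j_mem₂ : c.j ∈ c.L₂ := by
  have : c.j ∈ c.L₁ ⊓ c.L₂ := by rw [c.hm]; exact Subgroup.mem_zpowers c.j
  exact this.2

theorem Ctx.mem_inter {x : G} (h1 : x ∈ c.L₁) (h2 : x ∈ c.L₂) : x = 1 ∨ x = c.j := by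
  have : x ∈ Subgroup.zpowers c.j := by rw [← c.hm]; exact ⟨h1, h2⟩
  obtain ⟨k, rfl⟩ := Subgroup.mem_zpowers_iff.mp this
  rcases Int.even_or_odd' k with ⟨m, rfl | rfl⟩
  · left
    rw [zpow_mul, zpow_ofNat, c.j_sq, one_zpow]
  · right
    rw [zpow_add, zpow_mul, zpow_ofNat, c.j_sq, one_zpow, one_mul, zpow_one]

theorem Ctx.mem_C_of_mem₁ {x : G} (h : x ∈ c.L₁) : x ∈ c.C :=
  c.hle (Subgroup.mem_sup_left h)

theorem Ctx.mem_C_of_mem₂ {x : G} (h : x ∈ c.L₂) : x ∈ c.C :=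
  c.hle (Subgroup.mem_sup_right h)

theorem Ctx.comm_j₁ {x : G} (h : x ∈ c.L₁) : x * c.j = c.j * x :=
  c.mem_C.mp (c.mem_C_of_mem₁ h)

theorem Ctx.comm_j₂ {x : G} (h : x ∈ c.L₂) : x * c.j = c.j * x :=
  c.mem_C.mp (c.mem_C_of_mem₂ h)

theorem Ctx.comm_j_n : c.n * c.j = c.j * c.n := c.mem_C.mp c.hn

theorem Ctx.n_mul_n : c.n * c.n = c.j := by
  have := c.hn2; rwa [pow_two] at this

/-- `n x n⁻¹ ∈ L₂` for `x ∈ L₁`. -/
theorem Ctx.conj_mem₂ {x : G} (h : x ∈ c.L₁) : c.n * x * c.n⁻¹ ∈ c.L₂ := by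
  rw [← c.hswap]
  exact ⟨x, h, rfl⟩

/-- `n⁻¹ y n ∈ L₁` for `y ∈ L₂`. -/
theorem Ctx.conj_inv_mem₁ {y : G} (h : y ∈ c.L₂) : c.n⁻¹ * y * c.n ∈ c.L₁ := by
  rw [← c.hswap] at h
  obtain ⟨x, hx, rfl⟩ := h
  have : c.n⁻¹ * ((MulAut.conj c.n).toMonoidHom x) * c.n = x := by
    show c.n⁻¹ * (c.n * x * c.n⁻¹) * c.n = x
    group
  rw [this]; exact hx

/-- `n⁻¹ = n * j`. -/
theorem Ctx.n_inv : c.n⁻¹ = c.n * c.j := by
  rw [inv_eq_iff_mul_eq_one, ← mul_assoc, c.n_mul_n, c.j_mul_j]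

/-- `n y n⁻¹ ∈ L₁` for `y ∈ L₂`. -/
theorem Ctx.conj_mem₁ {y : G} (h : y ∈ c.L₂) : c.n * y * c.n⁻¹ ∈ c.L₁ := by
  have h1 := c.conj_inv_mem₁ h
  have h2 : c.n * y * c.n⁻¹ = c.n⁻¹ * y * c.n := by
    have e1 : c.n = c.n⁻¹ * c.j := by
      rw [c.n_inv, mul_assoc, c.j_mul_j, mul_one]
    have hy := c.comm_j₂ h
    calc c.n * y * c.n⁻¹ = (c.n⁻¹ * c.j) * y * (c.n * c.j) := by rw [← e1, ← c.n_inv]
      _ = c.n⁻¹ * (c.j * y) * c.n * c.j := by group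
      _ = c.n⁻¹ * (y * c.j) * c.n * c.j := by rw [hy]
      _ = c.n⁻¹ * y * (c.j * c.n) * c.j := by group
      _ = c.n⁻¹ * y * (c.n * c.j) * c.j := by rw [c.comm_j_n]
      _ = c.n⁻¹ * y * c.n * (c.j * c.j) := by group
      _ = c.n⁻¹ * y * c.n := by rw [c.j_mul_j, mul_one]
  rw [h2]; exact h1

/-- `n⁻¹ x n ∈ L₂` for `x ∈ L₁`. -/
theorem Ctx.conj_inv_mem₂ {x : G} (h : x ∈ c.L₁) : c.n⁻¹ * x * c.n ∈ c.L₂ := by
  have h1 := c.conj_mem₂ h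
  have hx := c.comm_j₁ h
  have h2 : c.n⁻¹ * x * c.n = c.n * x * c.n⁻¹ := by
    have e1 : c.n = c.n⁻¹ * c.j := by
      rw [c.n_inv, mul_assoc, c.j_mul_j, mul_one]
    calc c.n⁻¹ * x * c.n = (c.n * c.j) * x * (c.n⁻¹ * c.j) := by rw [← e1, ← c.n_inv]
      _ = c.n * (c.j * x) * c.n⁻¹ * c.j := by group
      _ = c.n * (x * c.j) * c.n⁻¹ * c.j := by rw [hx]
      _ = c.n * x * (c.j * c.n⁻¹) * c.j := by group
      _ = c.n * x * (c.n⁻¹ * c.j) * c.j := by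
          have : c.j * c.n⁻¹ = c.n⁻¹ * c.j := by
            have := c.comm_j_n
            calc c.j * c.n⁻¹ = c.n⁻¹ * (c.n * c.j) * c.n⁻¹ := by group
              _ = c.n⁻¹ * (c.j * c.n) * c.n⁻¹ := by rw [this]
              _ = c.n⁻¹ * c.j := by group
          rw [this]
      _ = c.n * x * c.n⁻¹ * (c.j * c.j) := by group
      _ = c.n * x * c.n⁻¹ := by rw [c.j_mul_j, mul_one]
  rw [h2]; exact h1

/-- `X a' b'`: the `x ∈ L₁` with `x⁻¹ a' x = (n⁻¹ b' n)^{±1}`. -/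
def Ctx.X (a' b' : G) : Set G :=
  {x | x ∈ c.L₁ ∧ (x⁻¹ * a' * x = c.n⁻¹ * b' * c.n ∨ x⁻¹ * a' * x = (c.n⁻¹ * b' * c.n)⁻¹)}

/-- `f x = x n x⁻¹`. -/
def Ctx.f (x : G) : G := x * c.n * x⁻¹

end Cfsg.Agent.Lib.Helper26.FW
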