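import Mathlib
import Cfsg.Agent.Lib.Helper26.FW.Ctx

/-!
S3211 farm (helper26) leaf A6. Fill the `sorry`(s); keep every statement verbatim.
n is not in M = L1 L2.  Sketch: every element of L1 and of L2 normalises L1 (L2 centralises L1), so M
normalises L1 (closure induction on `L1 ⊔ L2`).  If n were in M then n L1 n^-1 = L1, i.e. L2 = L1 by `hswap`;
then L1 = L1 ⊓ L2 = zpowers j, so n ∈ L1 ⊔ L2 = zpowers j gives n = 1 or n = j (`Ctx.mem_inter`), hence
n^2 = 1, against `hn2` and `j_ne_one`.
-/

set_option autoImplicit false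

namespace Cfsg.Agent.Lib.Helper26.FW

variable {G : Type*} [Group G] (c : Ctx G)

theorem Ctx.n_not_mem : c.n ∉ c.M := by
  intro hnM
  have hM : c.M ≤ Subgroup.normalizer c.L₁ := by
    refine sup_le Subgroup.le_normalizer ?_
    intro y hy
    rw [Subgroup.mem_normalizer_iff]
    intro x
    constructor
    · intro hx
      have : y * x * y⁻¹ = x := by
        rw [← c.hc x hx y hy, mul_assoc, mul_inv_cancel, mul_one]
      rw [this]; exact hx
    · intro hx
      have h2 := c.hc _ hx y hy
      have : x = y * x * y⁻¹ := by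
        calc x = y⁻¹ * (y * x * y⁻¹ * y) := by group
          _ = y⁻¹ * (y * (y * x * y⁻¹)) := by rw [h2]
          _ = y * x * y⁻¹ := by group
      rw [this]; exact hx
  have hnN := hM hnM
  rw [Subgroup.mem_normalizer_iff] at hnN
  have h21 : c.L₂ ≤ c.L₁ := by
    intro y hy
    have hy' := hy
    rw [← c.hswap] at hy'
    obtain ⟨x, hx, rfl⟩ := hy'
    exact (hnN x).mp hx
  have hn1 : c.n ∈ c.L₁ := by
    have : c.M ≤ c.L₁ := sup_le le_rfl h21
    exact this hnM
  have hn2 : c.n ∈ c.L₂ := by
    have := c.conj_mem₂ hn1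
    rwa [mul_inv_cancel_right] at this
  have hnn := c.n_mul_n
  rcases c.mem_inter hn1 hn2 with h | h
  · rw [h, one_mul] at hnn
    exact c.j_ne_one hnn.symm
  · rw [h, c.j_mul_j] at hnn
    exact c.j_ne_one hnn.symm

end Cfsg.Agent.Lib.Helper26.FW
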