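import Mathlib
import Cfsg.Agent.Lib.Helper26.FW.Ctx

/-!
S3211 farm (helper26) leaf A7. Fill the `sorry`(s); keep every statement verbatim.
M = L1 L2 as a set (the two subgroups commute elementwise).  Sketch: `Subgroup.closure_induction` on
`L1 ⊔ L2 = closure (L1 ∪ L2)` (`Subgroup.sup_eq_closure`) using `c.hc` to reorder
(x y)(x' y') = (x x')(y y'), (x y)^-1 = x^-1 y^-1.
-/

set_option autoImplicit false

namespace Cfsg.Agent.Lib.Helper26.FW

variable {G : Type*} [Group G] (c : Ctx G)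

theorem Ctx.mem_M_iff {w : G} : w ∈ c.M ↔ ∃ x ∈ c.L₁, ∃ y ∈ c.L₂, w = x * y := by
  constructor
  · intro hw
    have key : ∀ w ∈ Subgroup.closure ((c.L₁ : Set G) ∪ (c.L₂ : Set G)),
        ∃ x ∈ c.L₁, ∃ y ∈ c.L₂, w = x * y := by
      intro w hw
      refine Subgroup.closure_induction (p := fun w _ => ∃ x ∈ c.L₁, ∃ y ∈ c.L₂, w = x * y)
        ?_ ?_ ?_ ?_ hw
      · intro w hw
        rcases hw with h | h
        · exact ⟨w, h, 1, c.L₂.one_mem, (mul_one w).symm⟩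
        · exact ⟨1, c.L₁.one_mem, w, h, (one_mul w).symm⟩
      · exact ⟨1, c.L₁.one_mem, 1, c.L₂.one_mem, (mul_one 1).symm⟩
      · rintro u v _ _ ⟨x, hx, y, hy, rfl⟩ ⟨x', hx', y', hy', rfl⟩
        refine ⟨x * x', c.L₁.mul_mem hx hx', y * y', c.L₂.mul_mem hy hy', ?_⟩
        have h := c.hc x' hx' y hy
        calc x * y * (x' * y') = x * (y * x') * y' := by group
          _ = x * (x' * y) * y' := by rw [h]
          _ = x * x' * (y * y') := by group
      · rintro u _ ⟨x, hx, y, hy, rfl⟩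
        refine ⟨x⁻¹, c.L₁.inv_mem hx, y⁻¹, c.L₂.inv_mem hy, ?_⟩
        have h := c.hc x⁻¹ (c.L₁.inv_mem hx) y⁻¹ (c.L₂.inv_mem hy)
        rw [mul_inv_rev, h]
    apply key
    rw [← Subgroup.sup_eq_closure]
    exact hw
  · rintro ⟨x, hx, y, hy, rfl⟩
    exact Subgroup.mul_mem _ (Subgroup.mem_sup_left hx) (Subgroup.mem_sup_right hy)

end Cfsg.Agent.Lib.Helper26.FW
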