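import Mathlib
import Cfsg.Agent.Lib.Helper26.FW.Ctx
import Cfsg.Agent.Lib.Helper26.FW.A6
import Cfsg.Agent.Lib.Helper26.FW.A7

/-!
S3211 farm (helper26) leaf A8. Fill the `sorry`(s); keep every statement verbatim.
Coset decomposition of C = C_G(j): M has index 2 in C (`c.hi`, a `relIndex`) and n ∈ C ∖ M (`c.hn`,
`Ctx.n_not_mem`).  Hence for w, w' ∈ C ∖ M: w * w'^-1 ∈ M (use `Subgroup.relIndex`, `Subgroup.subgroupOf`,
`Subgroup.mul_mem_iff_of_index_two` in `↥c.C`), and with w' = n and `Ctx.mem_M_iff`: w = x y n.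
-/

set_option autoImplicit false

namespace Cfsg.Agent.Lib.Helper26.FW

variable {G : Type*} [Group G] (c : Ctx G)

theorem Ctx.mul_inv_mem_M {w w' : G} (hw : w ∈ c.C) (hw' : w' ∈ c.C) (h : w ∉ c.M) (h' : w' ∉ c.M) :
    w * w'⁻¹ ∈ c.M := by
  have hidx : (c.M.subgroupOf c.C).index = 2 := c.hi
  have key := Subgroup.mul_mem_iff_of_index_two hidx
    (a := (⟨w, hw⟩ : ↥c.C)) (b := (⟨w', hw'⟩ : ↥c.C)⁻¹)
  have h1 : (⟨w, hw⟩ : ↥c.C) ∉ c.M.subgroupOf c.C := by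
    rw [Subgroup.mem_subgroupOf]; exact h
  have h2 : (⟨w', hw'⟩ : ↥c.C)⁻¹ ∉ c.M.subgroupOf c.C := by
    rw [Subgroup.inv_mem_iff, Subgroup.mem_subgroupOf]; exact h'
  have h3 : (⟨w, hw⟩ : ↥c.C) * (⟨w', hw'⟩ : ↥c.C)⁻¹ ∈ c.M.subgroupOf c.C :=
    key.mpr ⟨fun e => absurd e h1, fun e => absurd e h2⟩
  rw [Subgroup.mem_subgroupOf] at h3
  exact h3

theorem Ctx.decomp {w : G} (hw : w ∈ c.C) (hM : w ∉ c.M) :
    ∃ x ∈ c.L₁, ∃ y ∈ c.L₂, w = x * y * c.n := by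
  have h1 := c.mul_inv_mem_M hw c.hn hM c.n_not_mem
  obtain ⟨x, hx, y, hy, hxy⟩ := c.mem_M_iff.mp h1
  refine ⟨x, hx, y, hy, ?_⟩
  rw [← hxy, inv_mul_cancel_right]

theorem Ctx.coset_not_mem_M {x y : G} (hx : x ∈ c.L₁) (hy : y ∈ c.L₂) : x * y * c.n ∉ c.M := by
  intro hmem
  have hxy : x * y ∈ c.M := c.mem_M_iff.mpr ⟨x, hx, y, hy, rfl⟩
  have : (x * y)⁻¹ * (x * y * c.n) ∈ c.M := c.M.mul_mem (c.M.inv_mem hxy) hmem
  rw [inv_mul_cancel_left] at this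
  exact c.n_not_mem this

theorem Ctx.coset_mem_C {x y : G} (hx : x ∈ c.L₁) (hy : y ∈ c.L₂) : x * y * c.n ∈ c.C :=
  c.C.mul_mem (c.C.mul_mem (c.mem_C_of_mem₁ hx) (c.mem_C_of_mem₂ hy)) c.hn

end Cfsg.Agent.Lib.Helper26.FW
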