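import Mathlib
import Cfsg.Agent.Lib.Helper26.FW.Ctx

/-!
S3211 farm (helper26) leaf A9. Fill the `sorry`(s); keep every statement verbatim.
Square of an element of the coset M n.  Pure computation:
(x y n)^2 = x y (n x n^-1) (n y n^-1) n^2, n^2 = j, and n y n^-1 ∈ L1 (`Ctx.conj_mem₁`) commutes with
y ∈ L2 and with n x n^-1 ∈ L2 (`Ctx.conj_mem₂`) by `c.hc`.
-/

set_option autoImplicit false

namespace Cfsg.Agent.Lib.Helper26.FW

variable {G : Type*} [Group G] (c : Ctx G)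

theorem Ctx.sq_coset {x y : G} (hx : x ∈ c.L₁) (hy : y ∈ c.L₂) :
    (x * y * c.n) ^ 2 = (x * (c.n * y * c.n⁻¹)) * (y * (c.n * x * c.n⁻¹)) * c.j := by
  have hX := c.conj_mem₂ hx
  have hY := c.conj_mem₁ hy
  have h1 : (c.n * y * c.n⁻¹) * (c.n * x * c.n⁻¹) = (c.n * x * c.n⁻¹) * (c.n * y * c.n⁻¹) :=
    c.hc _ hY _ hX
  have h2 : (c.n * y * c.n⁻¹) * y = y * (c.n * y * c.n⁻¹) := c.hc _ hY _ hy
  calc (x * y * c.n) ^ 2 = x * y * ((c.n * x * c.n⁻¹) * (c.n * y * c.n⁻¹)) * (c.n * c.n) := by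
        rw [pow_two]; group
    _ = x * y * ((c.n * y * c.n⁻¹) * (c.n * x * c.n⁻¹)) * c.j := by rw [← h1, c.n_mul_n]
    _ = x * (y * (c.n * y * c.n⁻¹)) * (c.n * x * c.n⁻¹) * c.j := by group
    _ = x * ((c.n * y * c.n⁻¹) * y) * (c.n * x * c.n⁻¹) * c.j := by rw [← h2]
    _ = (x * (c.n * y * c.n⁻¹)) * (y * (c.n * x * c.n⁻¹)) * c.j := by group

end Cfsg.Agent.Lib.Helper26.FW
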