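import Mathlib
import Cfsg.Agent.Lib.Helper26.FW.Ctx

/-!
S3211 farm (helper26) leaf B1a. Fill the `sorry`(s); keep every statement verbatim.
Involutions of M.  (x y)^2 = x^2 y^2 = 1 (x, y commute) gives x^2 = (y^2)^-1 ∈ L1 ∩ L2, so x^2 = 1 or
x^2 = j (`Ctx.mem_inter`).  If x^2 = 1 then y^2 = 1 and x, y ∈ {1, j} (`c.inv₁`, `c.inv₂`) so
x y ∈ {1, j} (j * j = 1).  If x^2 = j then y^2 = j^-1 = j.
(filled in place by helper2)
-/

set_option autoImplicit false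

namespace Cfsg.Agent.Lib.Helper26.FW

variable {G : Type*} [Group G] (c : Ctx G)

theorem Ctx.invol_M {x y : G} (hx : x ∈ c.L₁) (hy : y ∈ c.L₂) (h : (x * y) ^ 2 = 1) :
    x * y = 1 ∨ x * y = c.j ∨ (x ^ 2 = c.j ∧ y ^ 2 = c.j) := by
  have hxy : x * y = y * x := c.hc x hx y hy
  have h2 : x ^ 2 * y ^ 2 = 1 := by
    have : (x * y) ^ 2 = x ^ 2 * y ^ 2 := (Commute.mul_pow hxy 2)
    rw [← this]; exact h
  have hx2 : x ^ 2 = (y ^ 2)⁻¹ := eq_inv_of_mul_eq_one_left h2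
  have hx2L₁ : x ^ 2 ∈ c.L₁ := c.L₁.pow_mem hx 2
  have hx2L₂ : x ^ 2 ∈ c.L₂ := by
    rw [hx2]; exact c.L₂.inv_mem (c.L₂.pow_mem hy 2)
  rcases c.mem_inter hx2L₁ hx2L₂ with h1 | hj
  · -- x^2 = 1, so y^2 = 1
    have hy2 : y ^ 2 = 1 := by rw [h1, one_mul] at h2; exact h2
    rcases c.inv₁ x hx h1 with rfl | rfl
    · rcases c.inv₂ y hy hy2 with rfl | rfl
      · left; rw [one_mul]
      · right; left; rw [one_mul]
    · rcases c.inv₂ y hy hy2 with rfl | hyj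
      · right; left; rw [mul_one]
      · left; rw [hyj]; exact c.j_mul_j
  · right; right
    refine ⟨hj, ?_⟩
    have : (y ^ 2)⁻¹ = c.j := by rw [← hx2]; exact hj
    have h3 : y ^ 2 = c.j⁻¹ := by rw [← this, inv_inv]
    rw [h3, c.j_inv]

end Cfsg.Agent.Lib.Helper26.FW
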