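import Mathlib
import Cfsg.Agent.Lib.Helper26.FW.Ctx
import Cfsg.Agent.Lib.Helper26.FW.A9

/-!
S3211 farm (helper26) leaf B1b. Fill the `sorry`(s); keep every statement verbatim.
No involution (and no identity) in the coset M n.  By `Ctx.sq_coset`,
(x y n)^2 = u * v * j with u = x (n y n^-1) ∈ L1, v = y (n x n^-1) ∈ L2.  If this is 1 then
u = (v j)^-1 ∈ L1 ∩ L2, so u = 1 or u = j (`Ctx.mem_inter`).
Case u = 1: n y n^-1 = x^-1, so y = n^-1 x^-1 n, and v = n^-1 x^-1 n n x n^-1 = n^-1 x^-1 j x n^-1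
= j n^-2 = j j^-1 = 1 (j is central in C; n^2 = j), so the square is j ≠ 1.
Case u = j: n y n^-1 = x^-1 j, y = n^-1 x^-1 n j, v = j, square = j j j = j ≠ 1.
-/

set_option autoImplicit false

namespace Cfsg.Agent.Lib.Helper26.FW

variable {G : Type*} [Group G] (c : Ctx G)

theorem Ctx.sq_coset_ne_one {x y : G} (hx : x ∈ c.L₁) (hy : y ∈ c.L₂) :
    (x * y * c.n) ^ 2 ≠ 1 := by
  intro h
  rw [c.sq_coset hx hy] at h
  have hu1 : x * (c.n * y * c.n⁻¹) ∈ c.L₁ := c.L₁.mul_mem hx (c.conj_mem₁ hy)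
  have hv2 : y * (c.n * x * c.n⁻¹) ∈ c.L₂ := c.L₂.mul_mem hy (c.conj_mem₂ hx)
  have hu2 : x * (c.n * y * c.n⁻¹) ∈ c.L₂ := by
    have : x * (c.n * y * c.n⁻¹) = (y * (c.n * x * c.n⁻¹) * c.j)⁻¹ := by
      rw [eq_inv_iff_mul_eq_one, ← mul_assoc]; exact h
    rw [this]; exact c.L₂.inv_mem (c.L₂.mul_mem hv2 c.j_mem₂)
  have hxj := c.comm_j₁ hx
  have hnn := c.n_mul_n
  have hjj := c.j_mul_j
  rcases c.mem_inter hu1 hu2 with hu | hu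
  · have hy' : y = c.n⁻¹ * x⁻¹ * c.n := by
      calc y = c.n⁻¹ * x⁻¹ * (x * (c.n * y * c.n⁻¹)) * c.n := by group
        _ = c.n⁻¹ * x⁻¹ * c.n := by rw [hu, mul_one]
    have hv : y * (c.n * x * c.n⁻¹) = 1 := by
      calc y * (c.n * x * c.n⁻¹) = c.n⁻¹ * x⁻¹ * c.n * (c.n * x * c.n⁻¹) := by rw [← hy']
        _ = c.n⁻¹ * x⁻¹ * (c.n * c.n) * x * c.n⁻¹ := by group
        _ = c.n⁻¹ * x⁻¹ * (c.j * x) * c.n⁻¹ := by rw [hnn]; group
        _ = c.n⁻¹ * x⁻¹ * (x * c.j) * c.n⁻¹ := by rw [hxj]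
        _ = c.n⁻¹ * (c.n * c.n) * c.n⁻¹ := by rw [hnn]; group
        _ = 1 := by group
    rw [hu, hv, one_mul, one_mul] at h
    exact c.j_ne_one h
  · have hy' : y = c.n⁻¹ * x⁻¹ * c.j * c.n := by
      calc y = c.n⁻¹ * x⁻¹ * (x * (c.n * y * c.n⁻¹)) * c.n := by group
        _ = c.n⁻¹ * x⁻¹ * c.j * c.n := by rw [hu]
    have hv : y * (c.n * x * c.n⁻¹) = c.j := by
      calc y * (c.n * x * c.n⁻¹) = c.n⁻¹ * x⁻¹ * c.j * c.n * (c.n * x * c.n⁻¹) := by rw [← hy']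
        _ = c.n⁻¹ * x⁻¹ * c.j * (c.n * c.n) * x * c.n⁻¹ := by group
        _ = c.n⁻¹ * x⁻¹ * (c.j * c.j) * x * c.n⁻¹ := by rw [hnn]; group
        _ = c.n⁻¹ * c.n⁻¹ := by rw [hjj]; group
        _ = (c.n * c.n)⁻¹ := by group
        _ = c.j := by rw [hnn, c.j_inv]
    rw [hu, hv, hjj, one_mul] at h
    exact c.j_ne_one h

end Cfsg.Agent.Lib.Helper26.FW
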