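import Mathlib
import Cfsg.Agent.Lib.Helper26.FW.Ctx
import Cfsg.Agent.Lib.Helper26.FW.A7
import Cfsg.Agent.Lib.Helper26.FW.A8
import Cfsg.Agent.Lib.Helper26.FW.B1a
import Cfsg.Agent.Lib.Helper26.FW.B1b

/-!
S3211 farm (helper26) leaf B1. Fill the `sorry`(s); keep every statement verbatim.
Involutions of C: assemble `Ctx.invol_M`, `Ctx.sq_coset_ne_one` with `Ctx.mem_M_iff`, `Ctx.decomp`.
-/

set_option autoImplicit false

namespace Cfsg.Agent.Lib.Helper26.FW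

variable {G : Type*} [Group G] (c : Ctx G)

theorem Ctx.invol {w : G} (hw : w ∈ c.C) (h2 : w ^ 2 = 1) :
    w = 1 ∨ w = c.j ∨ ∃ a ∈ c.L₁, ∃ b ∈ c.L₂, a ^ 2 = c.j ∧ b ^ 2 = c.j ∧ w = a * b := by
  by_cases hM : w ∈ c.M
  · obtain ⟨x, hx, y, hy, rfl⟩ := c.mem_M_iff.mp hM
    rcases c.invol_M hx hy h2 with h | h | ⟨h1, h2'⟩
    · exact Or.inl h
    · exact Or.inr (Or.inl h)
    · exact Or.inr (Or.inr ⟨x, hx, y, hy, h1, h2', rfl⟩)
  · obtain ⟨x, hx, y, hy, rfl⟩ := c.decomp hw hM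
    exact absurd h2 (c.sq_coset_ne_one hx hy)

end Cfsg.Agent.Lib.Helper26.FW
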