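import Mathlib
import Cfsg.Agent.Lib.Helper26.FW.Ctx

/-!
S3211 farm (helper26) leaf K0. Fill the `sorry`(s); keep every statement verbatim.
Centralizer sizes.  (1) By `c.conj₁` there is g ∈ L1 with g a g^-1 = a'; x ↦ g x g^-1 is a bijection
`c.cent₁ a → c.cent₁ a'` (use `Set.ncard_congr` or `Set.ncard_image_of_injective`).
(2) 1, a, j, a * j are four distinct elements of `c.cent₁ a` (a^2 = j ≠ 1, j ∈ L1 commutes with a by
`Ctx.comm_j₁`).
-/

set_option autoImplicit false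

namespace Cfsg.Agent.Lib.Helper26.FW

variable {G : Type*} [Group G] (c : Ctx G)

theorem Ctx.ncard_cent₁_eq [Finite G] {a a' : G} (ha : a ∈ c.L₁) (ha' : a' ∈ c.L₁)
    (h : a ^ 2 = c.j) (h' : a' ^ 2 = c.j) : (c.cent₁ a).ncard = (c.cent₁ a').ncard := by
  obtain ⟨g, hg, hga⟩ := c.conj₁ a ha a' ha' h h'
  have himg : (fun x => g * x * g⁻¹) '' (c.cent₁ a) = c.cent₁ a' := by
    ext y
    constructor
    · rintro ⟨x, ⟨hx1, hx2⟩, rfl⟩
      refine ⟨c.L₁.mul_mem (c.L₁.mul_mem hg hx1) (c.L₁.inv_mem hg), ?_⟩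
      rw [← hga]
      calc g * x * g⁻¹ * (g * a * g⁻¹) = g * (x * a) * g⁻¹ := by group
        _ = g * (a * x) * g⁻¹ := by rw [hx2]
        _ = g * a * g⁻¹ * (g * x * g⁻¹) := by group
    · rintro ⟨hy1, hy2⟩
      refine ⟨g⁻¹ * y * g, ⟨c.L₁.mul_mem (c.L₁.mul_mem (c.L₁.inv_mem hg) hy1) hg, ?_⟩, by group⟩
      have ha_eq : a = g⁻¹ * a' * g := by rw [← hga]; group
      rw [ha_eq]
      calc g⁻¹ * y * g * (g⁻¹ * a' * g) = g⁻¹ * (y * a') * g := by group
        _ = g⁻¹ * (a' * y) * g := by rw [hy2]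
        _ = g⁻¹ * a' * g * (g⁻¹ * y * g) := by group
  rw [← himg]
  refine (Set.ncard_image_of_injective _ ?_).symm
  intro x y hxy
  simpa using hxy

theorem Ctx.four_le_ncard_cent₁ [Finite G] {a : G} (ha : a ∈ c.L₁) (h : a ^ 2 = c.j) :
    4 ≤ (c.cent₁ a).ncard := by
  classical
  have hj1 : c.j ≠ 1 := c.j_ne_one
  have haj : a * a = c.j := by rw [← pow_two]; exact h
  have ha1 : a ≠ 1 := by
    rintro rfl
    rw [one_pow] at h
    exact hj1 h.symm
  have hajne : a ≠ c.j := by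
    intro e
    have : a * a = 1 := by rw [e]; exact c.j_mul_j
    rw [haj] at this
    exact hj1 this
  have hcj : a * c.j = c.j * a := c.comm_j₁ ha
  have h1a : (1 : G) ≠ a := ha1.symm
  have h1j : (1 : G) ≠ c.j := hj1.symm
  have h1aj : (1 : G) ≠ a * c.j := by
    intro e
    have : a = c.j⁻¹ := eq_inv_of_mul_eq_one_left e.symm
    rw [c.j_inv] at this
    exact hajne this
  have haaj : a ≠ a * c.j := by
    intro e
    exact hj1 (left_eq_mul.mp e)
  have hjaj : c.j ≠ a * c.j := by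
    intro e
    exact ha1 (right_eq_mul.mp e)
  have hsub : ((({1, a, c.j, a * c.j} : Finset G)) : Set G) ⊆ c.cent₁ a := by
    intro x hx
    simp only [Finset.coe_insert, Finset.coe_singleton, Set.mem_insert_iff, Set.mem_singleton_iff] at hx
    rcases hx with rfl | rfl | rfl | rfl
    · exact ⟨c.L₁.one_mem, by simp⟩
    · exact ⟨ha, rfl⟩
    · exact ⟨c.j_mem₁, hcj.symm⟩
    · exact ⟨c.L₁.mul_mem ha c.j_mem₁, by rw [mul_assoc, ← hcj, ← mul_assoc]⟩
  have hcard : ({1, a, c.j, a * c.j} : Finset G).card = 4 := by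
    rw [Finset.card_insert_of_notMem (by simp [h1a, h1j, h1aj]),
      Finset.card_insert_of_notMem (by simp [hajne, haaj]),
      Finset.card_insert_of_notMem (by simp [hjaj]), Finset.card_singleton]
  have := Set.ncard_le_ncard hsub (Set.toFinite _)
  rw [Set.ncard_coe_finset, hcard] at this
  exact this

end Cfsg.Agent.Lib.Helper26.FW
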