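import Mathlib
import Cfsg.Agent.Lib.Helper26.FW.Ctx

/-!
S3211 farm (helper26) leaf K1a. Fill the `sorry`(s); keep every statement verbatim.
Size of X.  Put a1 := n^-1 b' n ∈ L1 (`Ctx.conj_inv_mem₁`), a1^2 = n^-1 b'^2 n = n^-1 j n = j
(`Ctx.comm_j_n`), and a1^-1 ∈ L1 also has square j^-1 = j; a1 ≠ a1^-1 because a1^2 = j ≠ 1.
By `c.conj₁` pick g0, g1 ∈ L1 with g0 a' g0^-1 = a1, g1 a' g1^-1 = a1^-1; with x0 = g0^-1, x1 = g1^-1:
{x ∈ L1 | x^-1 a' x = a1} = (cent₁ a') * x0 (x^-1 a' x = x0^-1 a' x0 iff x x0^-1 commutes with a'),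
similarly for a1^-1 with x1; the two sets are disjoint, each is the image of `c.cent₁ a'` under the
injective map (· * x0) resp. (· * x1).  Use `Set.ncard_union_eq`, `Set.ncard_image_of_injective`.
-/

set_option autoImplicit false

namespace Cfsg.Agent.Lib.Helper26.FW

variable {G : Type*} [Group G] (c : Ctx G)

theorem Ctx.ncard_X [Finite G] {a' b' : G} (ha' : a' ∈ c.L₁) (hb' : b' ∈ c.L₂)
    (h : a' ^ 2 = c.j) (h' : b' ^ 2 = c.j) :
    (c.X a' b').ncard = 2 * (c.cent₁ a').ncard := by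
  classical
  obtain ⟨a1, ha1⟩ : ∃ a1, a1 = c.n⁻¹ * b' * c.n := ⟨_, rfl⟩
  have ha1L : a1 ∈ c.L₁ := by
    rw [ha1]
    exact c.conj_inv_mem₁ hb'
  have ha1sq : a1 ^ 2 = c.j := by
    rw [ha1, pow_two]
    calc c.n⁻¹ * b' * c.n * (c.n⁻¹ * b' * c.n) = c.n⁻¹ * (b' * b') * c.n := by group
      _ = c.n⁻¹ * c.j * c.n := by rw [← pow_two, h']
      _ = c.n⁻¹ * (c.j * c.n) := by group
      _ = c.n⁻¹ * (c.n * c.j) := by rw [c.comm_j_n]
      _ = c.j := by group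
  have ha1inv_sq : (a1⁻¹) ^ 2 = c.j := by
    rw [inv_pow, ha1sq, c.j_inv]
  have hne : a1 ≠ a1⁻¹ := by
    intro heq
    have h1 : a1 * a1 = 1 := by
      nth_rewrite 2 [heq]
      exact mul_inv_cancel a1
    rw [← pow_two, ha1sq] at h1
    exact c.j_ne_one h1
  have hfib : ∀ t ∈ c.L₁, t ^ 2 = c.j →
      ({x | x ∈ c.L₁ ∧ x⁻¹ * a' * x = t} : Set G).ncard = (c.cent₁ a').ncard := by
    intro t ht ht2
    obtain ⟨g0, hg0, hg0t⟩ := c.conj₁ a' ha' t ht h ht2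
    have hset : ({x | x ∈ c.L₁ ∧ x⁻¹ * a' * x = t} : Set G)
        = (fun y => y * g0⁻¹) '' (c.cent₁ a') := by
      ext x
      simp only [Set.mem_ofPred_eq, Set.mem_image]
      constructor
      · rintro ⟨hx, hxt⟩
        refine ⟨x * g0, ⟨c.L₁.mul_mem hx hg0, ?_⟩, by group⟩
        have e : x⁻¹ * a' * x = g0 * a' * g0⁻¹ := by rw [hxt, hg0t]
        calc x * g0 * a' = x * (g0 * a' * g0⁻¹) * g0 := by group
          _ = x * (x⁻¹ * a' * x) * g0 := by rw [e]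
          _ = a' * (x * g0) := by group
      · rintro ⟨y, ⟨hy, hya⟩, rfl⟩
        refine ⟨c.L₁.mul_mem hy (c.L₁.inv_mem hg0), ?_⟩
        rw [← hg0t]
        calc (y * g0⁻¹)⁻¹ * a' * (y * g0⁻¹) = g0 * (y⁻¹ * (a' * y)) * g0⁻¹ := by group
          _ = g0 * (y⁻¹ * (y * a')) * g0⁻¹ := by rw [← hya]
          _ = g0 * a' * g0⁻¹ := by group
    rw [hset]
    exact Set.ncard_image_of_injective _ (mul_left_injective _)
  have hX : c.X a' b' = {x | x ∈ c.L₁ ∧ x⁻¹ * a' * x = a1} ∪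
      {x | x ∈ c.L₁ ∧ x⁻¹ * a' * x = a1⁻¹} := by
    ext x
    simp only [Ctx.X, Set.mem_ofPred_eq, Set.mem_union, ← ha1]
    tauto
  have hdisj : Disjoint ({x | x ∈ c.L₁ ∧ x⁻¹ * a' * x = a1} : Set G)
      {x | x ∈ c.L₁ ∧ x⁻¹ * a' * x = a1⁻¹} := by
    rw [Set.disjoint_left]
    rintro x ⟨_, h1⟩ ⟨_, h2⟩
    exact hne (h1.symm.trans h2)
  rw [hX, Set.ncard_union_eq hdisj, hfib a1 ha1L ha1sq,
    hfib a1⁻¹ (c.L₁.inv_mem ha1L) ha1inv_sq, two_mul]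

end Cfsg.Agent.Lib.Helper26.FW
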