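import Mathlib
import Cfsg.Agent.Lib.Helper26.FW.Ctx

/-!
S3211 farm (helper26) leaf K1b. Fill the `sorry`(s); keep every statement verbatim.
For x ∈ X, w := f x = x n x^-1 (and w j) is a square root of j commuting with z' = a' b'.
w^2 = x n^2 x^-1 = x j x^-1 = j (`Ctx.comm_j₁`).  Put δ = ±1 with x^-1 a' x = (n^-1 b' n)^δ.
w a' w^-1 = x (n (x^-1 a' x) n^-1) x^-1 = n (x^-1 a' x) n^-1 (it lies in L2 by `Ctx.conj_mem₂`, so commutes
with x ∈ L1) = b'^δ.  Then w b' w^-1 = (w (w a' w^-1) w^-1)^δ = (w^2 a' w^-2)^δ = (j a' j^-1)^δ = a'^δ.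
So w (a' b') w^-1 = b'^δ a'^δ = (a' b')^δ = a' b' because (a' b')^2 = a'^2 b'^2 = j j = 1.
For w j: (w j)^2 = w^2 j^2 = j (w commutes with j = w^2) and j commutes with a' b' (`Ctx.comm_j₁/₂`).
-/

set_option autoImplicit false

namespace Cfsg.Agent.Lib.Helper26.FW

variable {G : Type*} [Group G] (c : Ctx G)

theorem Ctx.f_mem_rootsJ {a' b' x : G} (ha' : a' ∈ c.L₁) (hb' : b' ∈ c.L₂)
    (h : a' ^ 2 = c.j) (h' : b' ^ 2 = c.j) (hx : x ∈ c.X a' b') :
    c.f x ∈ c.rootsJ (a' * b') ∧ c.f x * c.j ∈ c.rootsJ (a' * b') := by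
  obtain ⟨hx1, hx2⟩ := hx
  obtain ⟨w, hw⟩ : ∃ w, w = x * c.n * x⁻¹ := ⟨_, rfl⟩
  have hf : c.f x = w := hw.symm ▸ rfl
  rw [hf]
  have hxj : x * c.j = c.j * x := c.comm_j₁ hx1
  have hw2 : w ^ 2 = c.j := by
    calc w ^ 2 = x * (c.n * c.n) * x⁻¹ := by rw [hw, pow_two]; group
      _ = x * c.j * x⁻¹ := by rw [c.n_mul_n]
      _ = c.j := by rw [hxj]; group
  have hwj : w * c.j = c.j * w := by
    rw [← hw2]; group
  have hab : a' * b' = b' * a' := c.hc a' ha' b' hb'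
  have habj : (a' * b') * (a' * b') = 1 := by
    calc (a' * b') * (a' * b') = a' * (b' * a') * b' := by group
      _ = a' * (a' * b') * b' := by rw [hab]
      _ = a' ^ 2 * b' ^ 2 := by rw [pow_two, pow_two]; group
      _ = 1 := by rw [h, h', c.j_mul_j]
  have hjab : c.j * (a' * b') = (a' * b') * c.j := by
    rw [← mul_assoc, ← c.comm_j₁ ha', mul_assoc, ← c.comm_j₂ hb', mul_assoc]
  have key : w * (a' * b') = (a' * b') * w := by
    have hu : x⁻¹ * a' * x ∈ c.L₁ :=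
      c.L₁.mul_mem (c.L₁.mul_mem (c.L₁.inv_mem hx1) ha') hx1
    have hnu : c.n * (x⁻¹ * a' * x) * c.n⁻¹ ∈ c.L₂ := c.conj_mem₂ hu
    have hcomm : x * (c.n * (x⁻¹ * a' * x) * c.n⁻¹) = (c.n * (x⁻¹ * a' * x) * c.n⁻¹) * x :=
      c.hc x hx1 _ hnu
    have hwa : w * a' * w⁻¹ = c.n * (x⁻¹ * a' * x) * c.n⁻¹ := by
      calc w * a' * w⁻¹ = x * (c.n * (x⁻¹ * a' * x) * c.n⁻¹) * x⁻¹ := by rw [hw]; group
        _ = (c.n * (x⁻¹ * a' * x) * c.n⁻¹) * x * x⁻¹ := by rw [hcomm]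
        _ = _ := by group
    rcases hx2 with e | e
    · have h1 : w * a' * w⁻¹ = b' := by rw [hwa, e]; group
      have h2 : w * b' * w⁻¹ = a' := by
        calc w * b' * w⁻¹ = w * (w * a' * w⁻¹) * w⁻¹ := by rw [h1]
          _ = w ^ 2 * a' * (w ^ 2)⁻¹ := by rw [pow_two]; group
          _ = c.j * a' * c.j⁻¹ := by rw [hw2]
          _ = a' := by rw [← c.comm_j₁ ha']; group
      calc w * (a' * b') = (w * a' * w⁻¹) * (w * b' * w⁻¹) * w := by group
        _ = b' * a' * w := by rw [h1, h2]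
        _ = a' * b' * w := by rw [hab]
    · have h1 : w * a' * w⁻¹ = b'⁻¹ := by rw [hwa, e]; group
      have h2 : w * b' * w⁻¹ = a'⁻¹ := by
        have hb : b' = w * a'⁻¹ * w⁻¹ := by
          have h3 : b'⁻¹⁻¹ = (w * a' * w⁻¹)⁻¹ := by rw [h1]
          rw [inv_inv] at h3; rw [h3]; group
        calc w * b' * w⁻¹ = w * (w * a'⁻¹ * w⁻¹) * w⁻¹ := by rw [← hb]
          _ = w ^ 2 * a'⁻¹ * (w ^ 2)⁻¹ := by rw [pow_two]; group
          _ = c.j * a'⁻¹ * c.j⁻¹ := by rw [hw2]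
          _ = a'⁻¹ := by
              have h4 : c.j * a'⁻¹ = a'⁻¹ * c.j := (c.comm_j₁ (c.L₁.inv_mem ha')).symm
              rw [h4]; group
      have hinv : (a' * b')⁻¹ = a' * b' := by
        rw [inv_eq_iff_mul_eq_one]; exact habj
      calc w * (a' * b') = (w * a' * w⁻¹) * (w * b' * w⁻¹) * w := by group
        _ = b'⁻¹ * a'⁻¹ * w := by rw [h1, h2]
        _ = (a' * b')⁻¹ * w := by group
        _ = a' * b' * w := by rw [hinv]
  refine ⟨⟨hw2, key⟩, ?_, ?_⟩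
  · calc (w * c.j) ^ 2 = w * (c.j * w) * c.j := by rw [pow_two]; group
      _ = w * (w * c.j) * c.j := by rw [hwj]
      _ = w ^ 2 * (c.j * c.j) := by rw [pow_two]; group
      _ = c.j := by rw [hw2, c.j_mul_j, mul_one]
  · calc w * c.j * (a' * b') = w * (c.j * (a' * b')) := by group
      _ = w * ((a' * b') * c.j) := by rw [hjab]
      _ = (w * (a' * b')) * c.j := by group
      _ = (a' * b') * w * c.j := by rw [key]
      _ = a' * b' * (w * c.j) := by group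

end Cfsg.Agent.Lib.Helper26.FW
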