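import Mathlib
import Cfsg.Agent.Lib.Helper26.FW.Ctx

/-!
S3211 farm (helper26) leaf K1c. Fill the `sorry`(s); keep every statement verbatim.
Fibres of f on L1.  f x = f x' iff u := x'^-1 x commutes with n iff n u n^-1 = u; as n u n^-1 ∈ L2
(`Ctx.conj_mem₂`) this forces u ∈ L1 ∩ L2 = {1, j} (`Ctx.mem_inter`); conversely 1 and j commute with n
(`Ctx.comm_j_n`).  (x' = x or x' = x j, using j^-1 = j.)
f x = f x' * j is impossible: it gives u n u^-1 n^-1 = j (j central in C, j^-1 = j), i.e.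
u * (n u^-1 n^-1) = j with n u^-1 n^-1 ∈ L2, so u ∈ L2, u ∈ {1, j}, and then u n u^-1 n^-1 = 1 ≠ j.
-/

set_option autoImplicit false

namespace Cfsg.Agent.Lib.Helper26.FW

variable {G : Type*} [Group G] (c : Ctx G)

/-- an element of `L₁` commuting with `n` is `1` or `j` -/
theorem Ctx.K1c_aux_comm {u : G} (hu : u ∈ c.L₁) (h : u * c.n = c.n * u) : u = 1 ∨ u = c.j := by
  have h2 : c.n * u * c.n⁻¹ = u := by rw [← h]; group
  have : u ∈ c.L₂ := by rw [← h2]; exact c.conj_mem₂ hu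
  exact c.mem_inter hu this

theorem Ctx.f_eq_iff {x x' : G} (hx : x ∈ c.L₁) (hx' : x' ∈ c.L₁) :
    c.f x = c.f x' ↔ (x' = x ∨ x' = x * c.j) := by
  unfold Ctx.f
  constructor
  · intro h
    have hu : x'⁻¹ * x ∈ c.L₁ := c.L₁.mul_mem (c.L₁.inv_mem hx') hx
    have hcomm : (x'⁻¹ * x) * c.n = c.n * (x'⁻¹ * x) := by
      calc (x'⁻¹ * x) * c.n = x'⁻¹ * (x * c.n * x⁻¹) * x := by group
        _ = x'⁻¹ * (x' * c.n * x'⁻¹) * x := by rw [h]
        _ = c.n * (x'⁻¹ * x) := by group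
    rcases c.K1c_aux_comm hu hcomm with h1 | h1
    · left
      have : x = x' := by
        have := congrArg (fun t => x' * t) h1
        simpa using this
      exact this.symm
    · right
      have : x = x' * c.j := by
        have := congrArg (fun t => x' * t) h1
        simpa using this
      rw [this, mul_assoc, c.j_mul_j, mul_one]
  · rintro (rfl | rfl)
    · rfl
    · have hjn : c.j * c.n = c.n * c.j := c.comm_j_n.symm
      calc x * c.n * x⁻¹ = x * (c.n * c.j * c.j⁻¹) * x⁻¹ := by group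
        _ = x * (c.j * c.n * c.j⁻¹) * x⁻¹ := by rw [hjn]
        _ = x * c.j * c.n * (x * c.j)⁻¹ := by group

theorem Ctx.f_ne_f_mul_j {x x' : G} (hx : x ∈ c.L₁) (hx' : x' ∈ c.L₁) :
    c.f x ≠ c.f x' * c.j := by
  unfold Ctx.f
  intro h
  have hu : x'⁻¹ * x ∈ c.L₁ := c.L₁.mul_mem (c.L₁.inv_mem hx') hx
  have hx'j : x' * c.j = c.j * x' := c.comm_j₁ hx'
  have hjn : c.j * c.n = c.n * c.j := c.comm_j_n.symm
  -- u n u⁻¹ = n j
  have h1 : (x'⁻¹ * x) * c.n * (x'⁻¹ * x)⁻¹ = c.n * c.j := by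
    calc (x'⁻¹ * x) * c.n * (x'⁻¹ * x)⁻¹ = x'⁻¹ * (x * c.n * x⁻¹) * x' := by group
      _ = x'⁻¹ * (x' * c.n * x'⁻¹ * c.j) * x' := by rw [h]
      _ = c.n * (x'⁻¹ * (c.j * x')) := by group
      _ = c.n * (x'⁻¹ * (x' * c.j)) := by rw [hx'j]
      _ = c.n * c.j := by group
  -- n u⁻¹ n⁻¹ = u⁻¹ j
  have h2 : c.n * (x'⁻¹ * x)⁻¹ * c.n⁻¹ = (x'⁻¹ * x)⁻¹ * c.j := by
    have e : c.n * (x'⁻¹ * x)⁻¹ = (x'⁻¹ * x)⁻¹ * (c.n * c.j) := by
      rw [← h1]; group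
    rw [e]
    calc (x'⁻¹ * x)⁻¹ * (c.n * c.j) * c.n⁻¹ = (x'⁻¹ * x)⁻¹ * (c.n * c.j * c.n⁻¹) := by group
      _ = (x'⁻¹ * x)⁻¹ * (c.j * c.n * c.n⁻¹) := by rw [hjn]
      _ = (x'⁻¹ * x)⁻¹ * c.j := by group
  have h3 : (x'⁻¹ * x)⁻¹ * c.j ∈ c.L₂ := by
    rw [← h2]; exact c.conj_mem₂ (c.L₁.inv_mem hu)
  have h4 : (x'⁻¹ * x)⁻¹ * c.j ∈ c.L₁ := c.L₁.mul_mem (c.L₁.inv_mem hu) c.j_mem₁
  -- so u commutes with n
  have hcomm : (x'⁻¹ * x) * c.n = c.n * (x'⁻¹ * x) := by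
    rcases c.mem_inter h4 h3 with h5 | h5
    · -- u⁻¹ j = 1, u = j
      have : x'⁻¹ * x = c.j := by
        have h6 : (x'⁻¹ * x)⁻¹ = c.j⁻¹ := eq_inv_of_mul_eq_one_left h5
        exact inv_injective h6
      rw [this]; exact hjn
    · -- u⁻¹ j = j, u = 1
      have : x'⁻¹ * x = 1 := by
        have h6 : (x'⁻¹ * x)⁻¹ = 1 := mul_eq_right.mp h5
        exact inv_eq_one.mp h6
      rw [this]; simp
  have h7 : (x'⁻¹ * x) * c.n * (x'⁻¹ * x)⁻¹ = c.n := by rw [hcomm]; group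
  rw [h7] at h1
  exact c.j_ne_one (left_eq_mul.mp h1)

end Cfsg.Agent.Lib.Helper26.FW
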