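import Mathlib
import Cfsg.Agent.Lib.Helper26.FW.Ctx
import Cfsg.Agent.Lib.Helper26.FW.A6

/-!
S3211 farm (helper26) leaf K1d. Fill the `sorry`(s); keep every statement verbatim.
f x = x n x^-1 ∉ M for x ∈ L1 (else n = x^-1 (f x) x ∈ M, against `Ctx.n_not_mem`); same for f x * j
(j ∈ M).  And a' ∈ rootsJ (a' * b'): a'^2 = j and a' commutes with a' b' (a' commutes with b' by `c.hc`).
-/

set_option autoImplicit false

namespace Cfsg.Agent.Lib.Helper26.FW

variable {G : Type*} [Group G] (c : Ctx G)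

theorem Ctx.f_not_mem_M {x : G} (hx : x ∈ c.L₁) : c.f x ∉ c.M ∧ c.f x * c.j ∉ c.M := by
  have hxM : x ∈ c.M := Subgroup.mem_sup_left hx
  have hjM : c.j ∈ c.M := Subgroup.mem_sup_left c.j_mem₁
  have h1 : c.f x ∉ c.M := by
    intro h
    apply c.n_not_mem
    have e : c.n = x⁻¹ * c.f x * x := by
      unfold Ctx.f; group
    rw [e]
    exact c.M.mul_mem (c.M.mul_mem (c.M.inv_mem hxM) h) hxM
  refine ⟨h1, ?_⟩
  intro h
  apply h1
  have e : c.f x = c.f x * c.j * c.j := by rw [mul_assoc, c.j_mul_j, mul_one]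
  rw [e]
  exact c.M.mul_mem h hjM

theorem Ctx.a_mem_rootsJ {a' b' : G} (ha' : a' ∈ c.L₁) (hb' : b' ∈ c.L₂) (h : a' ^ 2 = c.j) :
    a' ∈ c.rootsJ (a' * b') := by
  refine ⟨h, ?_⟩
  rw [mul_assoc, ← c.hc a' ha' b' hb']

end Cfsg.Agent.Lib.Helper26.FW
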