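import Mathlib
import Cfsg.Agent.Lib.Helper26.FW.Ctx
import Cfsg.Agent.Lib.Helper26.FW.K1c

/-!
S3211 farm (helper26) leaf K1e. Fill the `sorry`(s); keep every statement verbatim.
Two-to-one counting: by `Ctx.f_eq_iff` every fibre of f on X ⊆ L1 has at most 2 elements ({x, x j}), so
|X| ≤ 2 |f '' X|.  Convert to finsets (`Set.ncard_eq_toFinset_card'`, classical decidability) and use
`Finset.card_le_mul_card_image`.
-/

set_option autoImplicit false

namespace Cfsg.Agent.Lib.Helper26.FW

variable {G : Type*} [Group G] (c : Ctx G)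

theorem Ctx.ncard_X_le [Finite G] (a' b' : G) :
    (c.X a' b').ncard ≤ 2 * (c.f '' (c.X a' b')).ncard := by
  classical
  have := Fintype.ofFinite G
  rw [Set.ncard_eq_toFinset_card' (c.X a' b'), Set.ncard_eq_toFinset_card' (c.f '' (c.X a' b')),
    Set.toFinset_image]
  apply Finset.card_le_mul_card_image
  intro w hw
  rw [Finset.mem_image] at hw
  obtain ⟨x0, hx0, rfl⟩ := hw
  rw [Set.mem_toFinset] at hx0
  have hsub : (Finset.filter (fun x => c.f x = c.f x0) (c.X a' b').toFinset) ⊆ {x0, x0 * c.j} := by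
    intro x hx
    rw [Finset.mem_filter, Set.mem_toFinset] at hx
    have := (c.f_eq_iff hx0.1 hx.1.1).mp hx.2.symm
    rw [Finset.mem_insert, Finset.mem_singleton]
    exact this
  exact (Finset.card_le_card hsub).trans Finset.card_le_two

end Cfsg.Agent.Lib.Helper26.FW
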