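import Mathlib
import Cfsg.Agent.Lib.Helper26.FW.Ctx
import Cfsg.Agent.Lib.Helper26.FW.K1a
import Cfsg.Agent.Lib.Helper26.FW.K1b
import Cfsg.Agent.Lib.Helper26.FW.K1c
import Cfsg.Agent.Lib.Helper26.FW.K1d
import Cfsg.Agent.Lib.Helper26.FW.K1e

/-!
S3211 farm (helper26) leaf K1. Fill the `sorry`(s); keep every statement verbatim.
Lower bound.  With X = c.X a' b', I1 = f '' X, I2 = (fun x => f x * j) '' X = (· * j) '' I1 (same ncard as I1):
{a'} ∪ I1 ∪ I2 ⊆ rootsJ (a' b') (`Ctx.f_mem_rootsJ`, `Ctx.a_mem_rootsJ`); the three pieces are pairwise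
disjoint (`Ctx.f_ne_f_mul_j`; a' ∈ L1 ⊆ M while I1, I2 avoid M by `Ctx.f_not_mem_M`; X ⊆ L1);
|I1| ≥ N since 2 N = |X| ≤ 2 |I1| (`Ctx.ncard_X`, `Ctx.ncard_X_le`).
(filled in place by helper2)
-/

set_option autoImplicit false

namespace Cfsg.Agent.Lib.Helper26.FW

variable {G : Type*} [Group G] (c : Ctx G)

theorem Ctx.lower [Finite G] {a' b' : G} (ha' : a' ∈ c.L₁) (hb' : b' ∈ c.L₂)
    (h : a' ^ 2 = c.j) (h' : b' ^ 2 = c.j) :
    2 * (c.cent₁ a').ncard + 1 ≤ (c.rootsJ (a' * b')).ncard := by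
  classical
  have hXL : ∀ x ∈ c.X a' b', x ∈ c.L₁ := fun x hx => hx.1
  have hN : (c.cent₁ a').ncard ≤ (c.f '' (c.X a' b')).ncard := by
    have h1 := c.ncard_X ha' hb' h h'
    have h2 := c.ncard_X_le a' b'
    omega
  have hI2card : ((fun w => w * c.j) '' (c.f '' (c.X a' b'))).ncard
      = (c.f '' (c.X a' b')).ncard :=
    Set.ncard_image_of_injective _ (mul_left_injective c.j)
  have hdisj : Disjoint (c.f '' (c.X a' b')) ((fun w => w * c.j) '' (c.f '' (c.X a' b'))) := by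
    rw [Set.disjoint_left]
    rintro w ⟨x, hx, rfl⟩ ⟨_, ⟨x', hx', rfl⟩, hw⟩
    exact c.f_ne_f_mul_j (hXL x hx) (hXL x' hx') hw.symm
  have ha1 : a' ∉ (c.f '' (c.X a' b')) ∪ ((fun w => w * c.j) '' (c.f '' (c.X a' b'))) := by
    rintro (⟨x, hx, hxa⟩ | ⟨_, ⟨x, hx, rfl⟩, hxa⟩)
    · exact (c.f_not_mem_M (hXL x hx)).1 (hxa ▸ Subgroup.mem_sup_left ha')
    · have hxa' : c.f x * c.j = a' := hxa
      exact (c.f_not_mem_M (hXL x hx)).2 (hxa' ▸ Subgroup.mem_sup_left ha')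
  have hsub : insert a' ((c.f '' (c.X a' b')) ∪ ((fun w => w * c.j) '' (c.f '' (c.X a' b'))))
      ⊆ c.rootsJ (a' * b') := by
    intro w hw
    rcases hw with rfl | ⟨x, hx, rfl⟩ | ⟨_, ⟨x, hx, rfl⟩, rfl⟩
    · exact c.a_mem_rootsJ ha' hb' h
    · exact (c.f_mem_rootsJ ha' hb' h h' hx).1
    · exact (c.f_mem_rootsJ ha' hb' h h' hx).2
  have hfin : (c.rootsJ (a' * b')).Finite := Set.toFinite _
  have hU : ((c.f '' (c.X a' b')) ∪ ((fun w => w * c.j) '' (c.f '' (c.X a' b')))).ncard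
      = 2 * (c.f '' (c.X a' b')).ncard := by
    rw [Set.ncard_union_eq hdisj (Set.toFinite _) (Set.toFinite _), hI2card]; ring
  have hI : (insert a' ((c.f '' (c.X a' b')) ∪ ((fun w => w * c.j) '' (c.f '' (c.X a' b'))))).ncard
      = 2 * (c.f '' (c.X a' b')).ncard + 1 := by
    rw [Set.ncard_insert_of_notMem ha1 (Set.toFinite _), hU]
  have hle := Set.ncard_le_ncard hsub hfin
  omega

end Cfsg.Agent.Lib.Helper26.FW
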