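import Mathlib
import Cfsg.Agent.Lib.Helper26.FW.Ctx
import Cfsg.Agent.Lib.Helper26.FW.A7

/-!
S3211 farm (helper26) leaf K2a. Fill the `sorry`(s); keep every statement verbatim.
Square roots of z = a b inside M: at most 4.  For w = x y (`Ctx.mem_M_iff`) with (x y)^2 = x^2 y^2 = a b:
t := a^-1 x^2 = b (y^2)^-1 ∈ L1 ∩ L2 so t = 1 or t = j (`Ctx.mem_inter`).
t = 1: x^2 = a, y^2 = b.  t = j: x^2 = a j, y^2 = b j, and (a j)^2 = j, (b j)^2 = j.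
In each case, by `c.sqrt₁`, `c.sqrt₂`, any two solutions (x0, y0), (x, y) have x ∈ {x0, x0 j}, y ∈ {y0, y0 j},
hence x y ∈ {x0 y0, x0 y0 j}.  So the set is contained in a set of the form {w1, w1 j, w2, w2 j}.
-/

set_option autoImplicit false

namespace Cfsg.Agent.Lib.Helper26.FW

variable {G : Type*} [Group G] (c : Ctx G)

/-- two factorizations with the same pair of squares differ by at most `j` -/
theorem Ctx.K2a_pair {a₀ b₀ : G} (ha₀ : a₀ ∈ c.L₁) (hb₀ : b₀ ∈ c.L₂) (h : a₀ ^ 2 = c.j)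
    (h' : b₀ ^ 2 = c.j) {x y x' y' : G} (hx : x ∈ c.L₁) (hy : y ∈ c.L₂) (hx' : x' ∈ c.L₁)
    (hy' : y' ∈ c.L₂) (ex : x ^ 2 = a₀) (ey : y ^ 2 = b₀) (ex' : x' ^ 2 = a₀) (ey' : y' ^ 2 = b₀) :
    x' * y' = x * y ∨ x' * y' = x * y * c.j := by
  rcases c.sqrt₁ a₀ ha₀ x hx x' hx' h ex ex' with e1 | e1
  · rcases c.sqrt₂ b₀ hb₀ y hy y' hy' h' ey ey' with e2 | e2
    · left; rw [e1, e2]
    · right; rw [e1, e2, mul_assoc]
  · rcases c.sqrt₂ b₀ hb₀ y hy y' hy' h' ey ey' with e2 | e2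
    · right
      rw [e1, e2]
      calc x * c.j * y = x * (c.j * y) := mul_assoc _ _ _
        _ = x * (y * c.j) := by rw [c.comm_j₂ hy]
        _ = x * y * c.j := (mul_assoc _ _ _).symm
    · left
      rw [e1, e2]
      calc x * c.j * (y * c.j) = x * (c.j * y) * c.j := by group
        _ = x * (y * c.j) * c.j := by rw [c.comm_j₂ hy]
        _ = x * y * (c.j * c.j) := by group
        _ = x * y := by rw [c.j_mul_j, mul_one]

/-- a square root of `a b` in `M` is `x y` with `(x², y²) = (a, b)` or `(a j, b j)` -/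
theorem Ctx.K2a_split {a b : G} (ha : a ∈ c.L₁) (hb : b ∈ c.L₂) {w : G} (hwM : w ∈ c.M)
    (hw : w ^ 2 = a * b) :
    (∃ x ∈ c.L₁, ∃ y ∈ c.L₂, w = x * y ∧ x ^ 2 = a ∧ y ^ 2 = b) ∨
      (∃ x ∈ c.L₁, ∃ y ∈ c.L₂, w = x * y ∧ x ^ 2 = a * c.j ∧ y ^ 2 = b * c.j) := by
  obtain ⟨x, hx, y, hy, rfl⟩ := c.mem_M_iff.mp hwM
  have hxy : x * y = y * x := c.hc x hx y hy
  have hsq : x ^ 2 * y ^ 2 = a * b := by
    rw [← hw, pow_two, pow_two, pow_two]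
    calc x * x * (y * y) = x * (x * y) * y := by group
      _ = x * (y * x) * y := by rw [hxy]
      _ = x * y * (x * y) := by group
  have ht1 : a⁻¹ * x ^ 2 ∈ c.L₁ := c.L₁.mul_mem (c.L₁.inv_mem ha) (c.L₁.pow_mem hx 2)
  have ht2 : a⁻¹ * x ^ 2 = b * (y ^ 2)⁻¹ := by
    calc a⁻¹ * x ^ 2 = a⁻¹ * (x ^ 2 * y ^ 2) * (y ^ 2)⁻¹ := by group
      _ = a⁻¹ * (a * b) * (y ^ 2)⁻¹ := by rw [hsq]
      _ = b * (y ^ 2)⁻¹ := by group
  have ht2' : a⁻¹ * x ^ 2 ∈ c.L₂ := by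
    rw [ht2]; exact c.L₂.mul_mem hb (c.L₂.inv_mem (c.L₂.pow_mem hy 2))
  rcases c.mem_inter ht1 ht2' with h1 | h1
  · left
    refine ⟨x, hx, y, hy, rfl, (inv_mul_eq_one.mp h1).symm, ?_⟩
    rw [ht2] at h1
    exact (mul_inv_eq_one.mp h1).symm
  · right
    refine ⟨x, hx, y, hy, rfl, inv_mul_eq_iff_eq_mul.mp h1, ?_⟩
    rw [ht2] at h1
    have h3 : b = c.j * y ^ 2 := mul_inv_eq_iff_eq_mul.mp h1
    calc y ^ 2 = c.j * c.j * y ^ 2 := by rw [c.j_mul_j, one_mul]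
      _ = c.j * (c.j * y ^ 2) := mul_assoc _ _ _
      _ = c.j * b := by rw [← h3]
      _ = b * c.j := (c.comm_j₂ hb).symm

theorem Ctx.upper_M [Finite G] {a b : G} (ha : a ∈ c.L₁) (hb : b ∈ c.L₂)
    (h : a ^ 2 = c.j) (h' : b ^ 2 = c.j) :
    {w | w ∈ c.M ∧ w ^ 2 = a * b}.ncard ≤ 4 := by
  classical
  have haj : (a * c.j) ^ 2 = c.j := by
    rw [pow_two]
    calc a * c.j * (a * c.j) = a * (c.j * a) * c.j := by group
      _ = a * (a * c.j) * c.j := by rw [c.comm_j₁ ha]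
      _ = a ^ 2 * (c.j * c.j) := by rw [pow_two]; simp only [mul_assoc]
      _ = c.j := by rw [h, c.j_mul_j, mul_one]
  have hbj : (b * c.j) ^ 2 = c.j := by
    rw [pow_two]
    calc b * c.j * (b * c.j) = b * (c.j * b) * c.j := by group
      _ = b * (b * c.j) * c.j := by rw [c.comm_j₂ hb]
      _ = b ^ 2 * (c.j * c.j) := by rw [pow_two]; simp only [mul_assoc]
      _ = c.j := by rw [h', c.j_mul_j, mul_one]
  have hajm : a * c.j ∈ c.L₁ := c.L₁.mul_mem ha c.j_mem₁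
  have hbjm : b * c.j ∈ c.L₂ := c.L₂.mul_mem hb c.j_mem₂
  obtain ⟨w1, hw1⟩ : ∃ w1, ∀ w, (∃ x ∈ c.L₁, ∃ y ∈ c.L₂, w = x * y ∧ x ^ 2 = a ∧ y ^ 2 = b) →
      w = w1 ∨ w = w1 * c.j := by
    by_cases hex : ∃ w, ∃ x ∈ c.L₁, ∃ y ∈ c.L₂, w = x * y ∧ x ^ 2 = a ∧ y ^ 2 = b
    · obtain ⟨w1, x, hx, y, hy, rfl, ex, ey⟩ := hex
      refine ⟨x * y, ?_⟩
      rintro w ⟨x', hx', y', hy', rfl, ex', ey'⟩
      exact c.K2a_pair ha hb h h' hx hy hx' hy' ex ey ex' ey'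
    · exact ⟨1, fun w hw => absurd ⟨w, hw⟩ hex⟩
  obtain ⟨w2, hw2⟩ : ∃ w2, ∀ w,
      (∃ x ∈ c.L₁, ∃ y ∈ c.L₂, w = x * y ∧ x ^ 2 = a * c.j ∧ y ^ 2 = b * c.j) →
      w = w2 ∨ w = w2 * c.j := by
    by_cases hex : ∃ w, ∃ x ∈ c.L₁, ∃ y ∈ c.L₂, w = x * y ∧ x ^ 2 = a * c.j ∧ y ^ 2 = b * c.j
    · obtain ⟨w2, x, hx, y, hy, rfl, ex, ey⟩ := hex
      refine ⟨x * y, ?_⟩
      rintro w ⟨x', hx', y', hy', rfl, ex', ey'⟩
      exact c.K2a_pair hajm hbjm haj hbj hx hy hx' hy' ex ey ex' ey'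
    · exact ⟨1, fun w hw => absurd ⟨w, hw⟩ hex⟩
  have hsub : {w | w ∈ c.M ∧ w ^ 2 = a * b} ⊆
      (({w1, w1 * c.j, w2, w2 * c.j} : Finset G) : Set G) := by
    rintro w ⟨hwM, hwsq⟩
    simp only [Finset.coe_insert, Finset.coe_singleton, Set.mem_insert_iff,
      Set.mem_singleton_iff]
    rcases c.K2a_split ha hb hwM hwsq with hP | hP
    · rcases hw1 w hP with e | e
      · left; exact e
      · right; left; exact e
    · rcases hw2 w hP with e | e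
      · right; right; left; exact e
      · right; right; right; exact e
  calc {w | w ∈ c.M ∧ w ^ 2 = a * b}.ncard
      ≤ (({w1, w1 * c.j, w2, w2 * c.j} : Finset G) : Set G).ncard :=
        Set.ncard_le_ncard hsub (Finset.finite_toSet _)
    _ = ({w1, w1 * c.j, w2, w2 * c.j} : Finset G).card := Set.ncard_coe_finset _
    _ ≤ 4 := Finset.card_le_four

end Cfsg.Agent.Lib.Helper26.FW
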