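import Mathlib
import Cfsg.Agent.Lib.Helper26.FW.Ctx
import Cfsg.Agent.Lib.Helper26.FW.A7
import Cfsg.Agent.Lib.Helper26.FW.A8

/-!
S3211 farm (helper26) leaf K2b1. Fill the `sorry`(s); keep every statement verbatim.
Structure of the square roots of z = a b in the coset C ∖ M, relative to a fixed one w0.
w w0^-1 ∈ M (`Ctx.mul_inv_mem_M`), so w = x y w0 with x ∈ L1, y ∈ L2 (`Ctx.mem_M_iff`).  Conjugation by w0
swaps L1 and L2 (write w0 = x' y' n by `Ctx.decomp`; use `Ctx.conj_mem₁/₂` and that L1, L2 commute).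
(x y w0)^2 = [x (w0 y w0^-1)] [y (w0 x w0^-1)] w0^2 with first bracket in L1, second in L2; this equals
w0^2 iff the product of brackets is 1; then t := x (w0 y w0^-1) ∈ L1 ∩ L2 = {1, j}, so
y = w0^-1 x^-1 w0 t (t central in C), and the second bracket = t^-1 forces x^-1 w0^2 x = w0^2, i.e. x commutes
with a b, hence with a (x commutes with b ∈ L2).
-/

set_option autoImplicit false

namespace Cfsg.Agent.Lib.Helper26.FW

variable {G : Type*} [Group G] (c : Ctx G)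

theorem Ctx.coset_roots_structure {a b w0 w : G} (ha : a ∈ c.L₁) (hb : b ∈ c.L₂)
    (hw0 : w0 ∈ c.C) (hw0M : w0 ∉ c.M) (hw0z : w0 ^ 2 = a * b)
    (hw : w ∈ c.C) (hwM : w ∉ c.M) (hwz : w ^ 2 = a * b) :
    ∃ x ∈ c.cent₁ a, ∃ t : G, (t = 1 ∨ t = c.j) ∧ w = x * (w0⁻¹ * x⁻¹ * w0) * t * w0 := by
  -- step 1
  have h1 := c.mul_inv_mem_M hw hw0 hwM hw0M
  obtain ⟨x, hx, y, hy, hxy⟩ := c.mem_M_iff.mp h1
  have hwe : w = x * y * w0 := by rw [← hxy]; group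
  -- step 2: conjugation by w0 swaps L₁ and L₂
  obtain ⟨x', hx', y', hy', hw0e⟩ := c.decomp hw0 hw0M
  have conj1 : ∀ u ∈ c.L₁, w0 * u * w0⁻¹ ∈ c.L₂ := by
    intro u hu
    have hnu := c.conj_mem₂ hu
    have h2 : y' * (c.n * u * c.n⁻¹) * y'⁻¹ ∈ c.L₂ :=
      c.L₂.mul_mem (c.L₂.mul_mem hy' hnu) (c.L₂.inv_mem hy')
    have h3 : x' * (y' * (c.n * u * c.n⁻¹) * y'⁻¹) = (y' * (c.n * u * c.n⁻¹) * y'⁻¹) * x' :=
      c.hc x' hx' _ h2
    have h4 : w0 * u * w0⁻¹ = x' * (y' * (c.n * u * c.n⁻¹) * y'⁻¹) * x'⁻¹ := by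
      rw [hw0e]; group
    rw [h4, h3, mul_inv_cancel_right]
    exact h2
  have conj2 : ∀ v ∈ c.L₂, w0 * v * w0⁻¹ ∈ c.L₁ := by
    intro v hv
    have hnv := c.conj_mem₁ hv
    have h3 : (c.n * v * c.n⁻¹) * y' = y' * (c.n * v * c.n⁻¹) := c.hc _ hnv y' hy'
    have h4 : w0 * v * w0⁻¹ = x' * (y' * (c.n * v * c.n⁻¹) * y'⁻¹) * x'⁻¹ := by
      rw [hw0e]; group
    rw [h4, ← h3, mul_inv_cancel_right]
    exact c.L₁.mul_mem (c.L₁.mul_mem hx' hnv) (c.L₁.inv_mem hx')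
  -- step 3
  obtain ⟨X', hX'⟩ : ∃ X', X' = w0 * x * w0⁻¹ := ⟨_, rfl⟩
  obtain ⟨Y', hY'⟩ : ∃ Y', Y' = w0 * y * w0⁻¹ := ⟨_, rfl⟩
  have hX'mem : X' ∈ c.L₂ := by rw [hX']; exact conj1 x hx
  have hY'mem : Y' ∈ c.L₁ := by rw [hY']; exact conj2 y hy
  have hsq : w ^ 2 = (x * Y') * (y * X') * w0 ^ 2 := by
    have e1 : Y' * X' = X' * Y' := c.hc Y' hY'mem X' hX'mem
    have e2 : Y' * y = y * Y' := c.hc Y' hY'mem y hy
    calc w ^ 2 = x * y * (X' * Y') * w0 ^ 2 := by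
          rw [hwe, hX', hY', pow_two, pow_two]; group
      _ = x * y * (Y' * X') * w0 ^ 2 := by rw [e1]
      _ = x * (y * Y') * X' * w0 ^ 2 := by group
      _ = x * (Y' * y) * X' * w0 ^ 2 := by rw [e2]
      _ = (x * Y') * (y * X') * w0 ^ 2 := by group
  have hprod : (x * Y') * (y * X') = 1 := by
    rw [hwz, hw0z] at hsq
    exact mul_eq_right.mp hsq.symm
  have ht1 : x * Y' ∈ c.L₁ := c.L₁.mul_mem hx hY'mem
  have ht2 : x * Y' ∈ c.L₂ := by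
    have : x * Y' = (y * X')⁻¹ := eq_inv_of_mul_eq_one_left hprod
    rw [this]
    exact c.L₂.inv_mem (c.L₂.mul_mem hy hX'mem)
  have ht := c.mem_inter ht1 ht2
  obtain ⟨t, htdef⟩ : ∃ t, t = x * Y' := ⟨_, rfl⟩
  rw [← htdef] at ht hprod
  have htj : t * t = 1 := by
    rcases ht with h | h
    · rw [h, one_mul]
    · rw [h]; exact c.j_mul_j
  have htc : ∀ g ∈ c.C, g * t = t * g := by
    intro g hg
    rcases ht with h | h
    · rw [h, mul_one, one_mul]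
    · rw [h]; exact c.mem_C.mp hg
  -- step 4
  have hy_eq : y = (w0⁻¹ * x⁻¹ * w0) * t := by
    have h4 : w0 * y * w0⁻¹ = x⁻¹ * t := by rw [htdef, hY']; group
    have h5 : y = w0⁻¹ * (x⁻¹ * t) * w0 := by rw [← h4]; group
    rw [h5]
    have h6 := htc w0 hw0
    calc w0⁻¹ * (x⁻¹ * t) * w0 = w0⁻¹ * x⁻¹ * (t * w0) := by group
      _ = w0⁻¹ * x⁻¹ * (w0 * t) := by rw [h6]
      _ = w0⁻¹ * x⁻¹ * w0 * t := by group
  -- step 5
  have hxa : x * a = a * x := by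
    have h6 : y * X' = t⁻¹ := eq_inv_of_mul_eq_one_right hprod
    rw [hy_eq, hX'] at h6
    have hX'C : w0 * x * w0⁻¹ ∈ c.C := by rw [← hX']; exact c.mem_C_of_mem₂ hX'mem
    have h7 := htc _ hX'C
    have h8 : w0⁻¹ * x⁻¹ * w0 * (w0 * x * w0⁻¹) * t = t⁻¹ := by
      rw [← h6]
      calc w0⁻¹ * x⁻¹ * w0 * (w0 * x * w0⁻¹) * t
          = w0⁻¹ * x⁻¹ * w0 * ((w0 * x * w0⁻¹) * t) := by group
        _ = w0⁻¹ * x⁻¹ * w0 * (t * (w0 * x * w0⁻¹)) := by rw [h7]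
        _ = w0⁻¹ * x⁻¹ * w0 * t * (w0 * x * w0⁻¹) := by group
    have h9 : w0⁻¹ * x⁻¹ * w0 * (w0 * x * w0⁻¹) = 1 := by
      have e : w0⁻¹ * x⁻¹ * w0 * (w0 * x * w0⁻¹) = t⁻¹ * t⁻¹ := eq_mul_inv_of_mul_eq h8
      rw [e, ← mul_inv_rev, htj, inv_one]
    have h10 : x⁻¹ * (w0 ^ 2) * x = w0 ^ 2 := by
      have e : x⁻¹ * (w0 ^ 2) * x = w0 * (w0⁻¹ * x⁻¹ * w0 * (w0 * x * w0⁻¹)) * w0 := by
        rw [pow_two]; group
      rw [e, h9, mul_one, pow_two]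
    rw [hw0z] at h10
    have hxb : x * b = b * x := c.hc x hx b hb
    have h11 : a * b * x = x * (a * b) := by
      have e : x * (x⁻¹ * (a * b) * x) = x * (a * b) := by rw [h10]
      rw [← e]; group
    have h12 : a * x * b = x * a * b := by
      calc a * x * b = a * (x * b) := by group
        _ = a * (b * x) := by rw [hxb]
        _ = a * b * x := by group
        _ = x * (a * b) := h11
        _ = x * a * b := by group
    exact (mul_right_cancel h12).symm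
  refine ⟨x, ⟨hx, hxa⟩, t, ht, ?_⟩
  rw [hwe, hy_eq]; group

end Cfsg.Agent.Lib.Helper26.FW
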