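import Mathlib
import Cfsg.Agent.Lib.Helper26.FW.Ctx
import Cfsg.Agent.Lib.Helper26.FW.K2b1

/-!
S3211 farm (helper26) leaf K2b. Fill the `sorry`(s); keep every statement verbatim.
Square roots of z = a b in C ∖ M: at most N = |cent₁ a|.  If there is none, trivial.  Else fix w0; by
`Ctx.coset_roots_structure` the set is contained in the image of
g : (cent₁ a) × {1, j} → G, g (x, t) = x (w0^-1 x^-1 w0) t w0, and g (x j, t) = g (x, t) with x j ≠ x,
x j ∈ cent₁ a: every fibre of g has at least 2 elements, so 2 |image| ≤ 2 N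
(`Finset.mul_card_image_le_card`).
-/

set_option autoImplicit false

namespace Cfsg.Agent.Lib.Helper26.FW

variable {G : Type*} [Group G] (c : Ctx G)

theorem Ctx.upper_coset [Finite G] {a b : G} (ha : a ∈ c.L₁) (hb : b ∈ c.L₂)
    (h : a ^ 2 = c.j) (h' : b ^ 2 = c.j) :
    {w | w ∈ c.C ∧ w ∉ c.M ∧ w ^ 2 = a * b}.ncard ≤ (c.cent₁ a).ncard := by
  classical
  by_cases hR : {w | w ∈ c.C ∧ w ∉ c.M ∧ w ^ 2 = a * b} = ∅
  · rw [hR, Set.ncard_empty]; exact Nat.zero_le _
  obtain ⟨w0, hw0C, hw0M, hw0z⟩ := Set.nonempty_iff_ne_empty.mpr hR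
  have hfin : (c.cent₁ a).Finite := Set.toFinite _
  set A : Finset G := hfin.toFinset with hA
  have hAmem : ∀ x, x ∈ A ↔ x ∈ c.cent₁ a := fun x => Set.Finite.mem_toFinset hfin
  have hAcard : (c.cent₁ a).ncard = A.card := Set.ncard_eq_toFinset_card _ hfin
  set g : G × G → G := fun p => p.1 * (w0⁻¹ * p.1⁻¹ * w0) * p.2 * w0 with hg
  set T : Finset (G × G) := A ×ˢ ({1, c.j} : Finset G) with hT
  have hj1 : (1 : G) ≠ c.j := fun e => c.j_ne_one e.symm
  have hTcard : T.card = A.card * 2 := by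
    rw [hT, Finset.card_product, Finset.card_pair hj1]
  have hsub : {w | w ∈ c.C ∧ w ∉ c.M ∧ w ^ 2 = a * b} ⊆ ((T.image g : Finset G) : Set G) := by
    rintro w ⟨hwC, hwM, hwz⟩
    obtain ⟨x, hx, t, ht, hwxt⟩ :=
      c.coset_roots_structure ha hb hw0C hw0M hw0z hwC hwM hwz
    rw [Finset.mem_coe, Finset.mem_image]
    refine ⟨(x, t), ?_, hwxt.symm⟩
    rw [hT, Finset.mem_product]
    refine ⟨(hAmem x).mpr hx, ?_⟩
    rcases ht with rfl | rfl <;> simp
  have h1 : {w | w ∈ c.C ∧ w ∉ c.M ∧ w ^ 2 = a * b}.ncard ≤ (T.image g).card := by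
    have := Set.ncard_le_ncard hsub (Finset.finite_toSet _)
    rwa [Set.ncard_coe_finset] at this
  have hjw : c.j * w0⁻¹ = w0⁻¹ * c.j := by
    have e := c.mem_C.mp hw0C
    calc c.j * w0⁻¹ = w0⁻¹ * (w0 * c.j) * w0⁻¹ := by group
      _ = w0⁻¹ * (c.j * w0) * w0⁻¹ := by rw [e]
      _ = w0⁻¹ * c.j := by group
  have hfib : ∀ p ∈ T.image g, 2 ≤ (T.filter (fun q => g q = p)).card := by
    intro p hp
    obtain ⟨⟨x, t⟩, hxt, rfl⟩ := Finset.mem_image.mp hp
    rw [hT, Finset.mem_product] at hxt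
    obtain ⟨hxA, htm⟩ := hxt
    have hx : x ∈ c.cent₁ a := (hAmem x).mp hxA
    have hxj : x * c.j ∈ c.cent₁ a := by
      refine ⟨c.L₁.mul_mem hx.1 c.j_mem₁, ?_⟩
      have e1 := c.comm_j₁ ha
      calc x * c.j * a = x * (c.j * a) := by group
        _ = x * (a * c.j) := by rw [e1]
        _ = (x * a) * c.j := by group
        _ = (a * x) * c.j := by rw [hx.2]
        _ = a * (x * c.j) := by group
    have hne : (x, t) ≠ (x * c.j, t) := by
      intro e
      have e1 : x = x * c.j := congrArg Prod.fst e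
      have : c.j = 1 := by
        have := mul_left_cancel (a := x) (b := (1 : G)) (c := c.j) (by rw [mul_one]; exact e1)
        exact this.symm
      exact c.j_ne_one this
    have hgeq : g (x * c.j, t) = g (x, t) := by
      simp only [hg]
      have : x * c.j * (w0⁻¹ * (x * c.j)⁻¹ * w0) = x * (w0⁻¹ * x⁻¹ * w0) := by
        calc x * c.j * (w0⁻¹ * (x * c.j)⁻¹ * w0)
            = x * (c.j * w0⁻¹) * c.j⁻¹ * x⁻¹ * w0 := by group
          _ = x * (w0⁻¹ * c.j) * c.j⁻¹ * x⁻¹ * w0 := by rw [hjw]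
          _ = x * (w0⁻¹ * x⁻¹ * w0) := by group
      rw [this]
    have hpair : ({(x, t), (x * c.j, t)} : Finset (G × G)) ⊆ T.filter (fun q => g q = g (x, t)) := by
      intro q hq
      rw [Finset.mem_insert, Finset.mem_singleton] at hq
      rw [Finset.mem_filter, hT, Finset.mem_product]
      rcases hq with rfl | rfl
      · exact ⟨⟨hxA, htm⟩, rfl⟩
      · exact ⟨⟨(hAmem _).mpr hxj, htm⟩, hgeq⟩
    calc 2 = ({(x, t), (x * c.j, t)} : Finset (G × G)).card := (Finset.card_pair hne).symm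
      _ ≤ _ := Finset.card_le_card hpair
  have h2 : 2 * (T.image g).card ≤ T.card := Finset.mul_card_image_le_card T 2 hfib
  rw [hAcard]
  omega

end Cfsg.Agent.Lib.Helper26.FW
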