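import Mathlib
import Cfsg.Agent.Lib.Helper26.FW.Ctx
import Cfsg.Agent.Lib.Helper26.FW.K2a
import Cfsg.Agent.Lib.Helper26.FW.K2b

/-!
S3211 farm (helper26) leaf K2. Fill the `sorry`(s); keep every statement verbatim.
Upper bound: rootsZ (a b) ⊆ {w ∈ M, w^2 = a b} ∪ {w ∈ C ∖ M, w^2 = a b} (`Ctx.mem_C`);
`Set.ncard_union_le`, `Set.ncard_le_ncard`.
-/

set_option autoImplicit false

namespace Cfsg.Agent.Lib.Helper26.FW

variable {G : Type*} [Group G] (c : Ctx G)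

theorem Ctx.upper [Finite G] {a b : G} (ha : a ∈ c.L₁) (hb : b ∈ c.L₂)
    (h : a ^ 2 = c.j) (h' : b ^ 2 = c.j) :
    (c.rootsZ (a * b)).ncard ≤ (c.cent₁ a).ncard + 4 := by
  have hsub : c.rootsZ (a * b) ⊆
      {w | w ∈ c.M ∧ w ^ 2 = a * b} ∪ {w | w ∈ c.C ∧ w ∉ c.M ∧ w ^ 2 = a * b} := by
    intro w hw
    obtain ⟨h1, h2⟩ := hw
    by_cases hM : w ∈ c.M
    · left; exact ⟨hM, h2⟩
    · right; exact ⟨c.mem_C.mpr h1, hM, h2⟩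
  calc (c.rootsZ (a * b)).ncard
      ≤ ({w | w ∈ c.M ∧ w ^ 2 = a * b} ∪ {w | w ∈ c.C ∧ w ∉ c.M ∧ w ^ 2 = a * b}).ncard :=
        Set.ncard_le_ncard hsub (Set.toFinite _)
    _ ≤ {w | w ∈ c.M ∧ w ^ 2 = a * b}.ncard + {w | w ∈ c.C ∧ w ∉ c.M ∧ w ^ 2 = a * b}.ncard :=
        Set.ncard_union_le _ _
    _ ≤ 4 + (c.cent₁ a).ncard := Nat.add_le_add (c.upper_M ha hb h h') (c.upper_coset ha hb h h')
    _ = (c.cent₁ a).ncard + 4 := Nat.add_comm _ _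

end Cfsg.Agent.Lib.Helper26.FW
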