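import Mathlib
import Cfsg.Agent.Lib.Helper26.FW.Ctx

/-!
S3211 farm (helper26) leaf K3. Fill the `sorry`(s); keep every statement verbatim.
Transport by conjugation: w ↦ g^-1 w g is a bijection rootsZ (g j g^-1) → rootsJ (g^-1 j g)
(w j = j w becomes (g^-1 w g)(g^-1 j g) = (g^-1 j g)(g^-1 w g); w^2 = g j g^-1 becomes (g^-1 w g)^2 = j).
Conversely for w' ∈ rootsJ (g^-1 j g), w = g w' g^-1 has w^2 = g j g^-1 and commutes with j.
Use `Set.ncard_image_of_injective` with the image computed, or `Set.ncard_congr`.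
-/

set_option autoImplicit false

namespace Cfsg.Agent.Lib.Helper26.FW

variable {G : Type*} [Group G] (c : Ctx G)

theorem Ctx.transport [Finite G] (g : G) :
    (c.rootsZ (g * c.j * g⁻¹)).ncard = (c.rootsJ (g⁻¹ * c.j * g)).ncard := by
  have himg : (fun w => g⁻¹ * w * g) '' (c.rootsZ (g * c.j * g⁻¹)) = c.rootsJ (g⁻¹ * c.j * g) := by
    ext w
    simp only [Set.mem_image, Ctx.rootsZ, Ctx.rootsJ, Set.mem_setOf_eq]
    constructor
    · rintro ⟨v, ⟨h1, h2⟩, rfl⟩
      refine ⟨?_, ?_⟩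
      · calc (g⁻¹ * v * g)^2 = g⁻¹ * v^2 * g := by simp only [pow_two]; group
          _ = c.j := by rw [h2]; group
      · calc g⁻¹ * v * g * (g⁻¹ * c.j * g) = g⁻¹ * (v * c.j) * g := by group
          _ = g⁻¹ * (c.j * v) * g := by rw [h1]
          _ = _ := by group
    · rintro ⟨h1, h2⟩
      refine ⟨g * w * g⁻¹, ⟨?_, ?_⟩, by group⟩
      · calc g * w * g⁻¹ * c.j = g * (w * (g⁻¹ * c.j * g)) * g⁻¹ := by group
          _ = g * ((g⁻¹ * c.j * g) * w) * g⁻¹ := by rw [h2]
          _ = _ := by group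
      · calc (g * w * g⁻¹)^2 = g * w^2 * g⁻¹ := by simp only [pow_two]; group
          _ = _ := by rw [h1]
  rw [← himg]
  exact (Set.ncard_image_of_injective _ (fun a b h => by simpa using h)).symm

end Cfsg.Agent.Lib.Helper26.FW
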