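import Mathlib
import Cfsg.Prelude
import Cfsg.Agent.Lib.Helper26.FW.Ctx
import Cfsg.Agent.Lib.Helper26.FW.B1
import Cfsg.Agent.Lib.Helper26.FW.K0
import Cfsg.Agent.Lib.Helper26.FW.K1
import Cfsg.Agent.Lib.Helper26.FW.K2
import Cfsg.Agent.Lib.Helper26.FW.K3

/-!
S3211 farm (helper26): `j` is an isolated involution (assembly; helper26).
-/

set_option autoImplicit false

namespace Cfsg.Agent.Lib.Helper26.FW

variable {G : Type*} [Group G] (c : Ctx G)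

theorem Ctx.isolated [Finite G] : Cfsg.IsIsolatedInvolution c.j := by
  refine ⟨c.hj, ?_⟩
  intro g hcomm
  by_contra hne
  have hjinv := c.j_inv
  -- z = g j g⁻¹
  have hzC : g * c.j * g⁻¹ ∈ c.C := c.mem_C.mpr hcomm.symm.eq
  have hz2 : (g * c.j * g⁻¹) ^ 2 = 1 := by
    rw [pow_two]
    calc g * c.j * g⁻¹ * (g * c.j * g⁻¹) = g * (c.j * c.j) * g⁻¹ := by group
      _ = 1 := by rw [c.j_mul_j]; group
  have hz1 : g * c.j * g⁻¹ ≠ 1 := by
    intro h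
    apply c.j_ne_one
    calc c.j = g⁻¹ * (g * c.j * g⁻¹) * g := by group
      _ = 1 := by rw [h]; group
  -- z' = g⁻¹ j g
  have hcomm' : (g⁻¹ * c.j * g) * c.j = c.j * (g⁻¹ * c.j * g) := by
    have h1 : c.j * (g * c.j * g⁻¹) = (g * c.j * g⁻¹) * c.j := hcomm.eq
    calc (g⁻¹ * c.j * g) * c.j = g⁻¹ * (c.j * (g * c.j * g⁻¹)) * g := by group
      _ = g⁻¹ * ((g * c.j * g⁻¹) * c.j) * g := by rw [h1]
      _ = c.j * (g⁻¹ * c.j * g) := by group
  have hz'C : g⁻¹ * c.j * g ∈ c.C := c.mem_C.mpr hcomm'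
  have hz'2 : (g⁻¹ * c.j * g) ^ 2 = 1 := by
    rw [pow_two]
    calc g⁻¹ * c.j * g * (g⁻¹ * c.j * g) = g⁻¹ * (c.j * c.j) * g := by group
      _ = 1 := by rw [c.j_mul_j]; group
  have hz'1 : g⁻¹ * c.j * g ≠ 1 := by
    intro h
    apply c.j_ne_one
    calc c.j = g * (g⁻¹ * c.j * g) * g⁻¹ := by group
      _ = 1 := by rw [h]; group
  have hz'j : g⁻¹ * c.j * g ≠ c.j := by
    intro h
    apply hne
    calc g * c.j * g⁻¹ = g * (g⁻¹ * c.j * g) * g⁻¹ := by rw [h]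
      _ = c.j := by group
  rcases c.invol hzC hz2 with h1 | h1 | ⟨a, ha, b, hb, ha2, hb2, hzab⟩
  · exact hz1 h1
  · exact hne h1
  rcases c.invol hz'C hz'2 with h1 | h1 | ⟨a', ha', b', hb', ha'2, hb'2, hz'ab⟩
  · exact hz'1 h1
  · exact hz'j h1
  have e := c.transport g
  rw [hzab, hz'ab] at e
  have u := c.upper ha hb ha2 hb2
  have l := c.lower ha' hb' ha'2 hb'2
  have k := c.ncard_cent₁_eq ha ha' ha2 ha'2
  have f := c.four_le_ncard_cent₁ ha ha2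
  omega

end Cfsg.Agent.Lib.Helper26.FW
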