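import Mathlib

/-!
S3211 farm (helper26) leaf S1. Fill the `sorry`; keep the statement verbatim.
SL(2,F), char F ≠ 2: the only elements of square 1 are 1 and -1.
Sketch: write x = !![p, r; s, u] with p u - r s = 1; x^2 = 1 gives (entrywise) r (p + u) = 0, s (p + u) = 0,
p^2 + r s = 1, u^2 + r s = 1.  If p + u = 0 then p^2 + r s = -(p u - r s) = -1 ≠ 1 (2 ≠ 0).  So r = s = 0,
p u = 1, p^2 = 1: p = u = ±1.  (Or Cayley-Hamilton.)  `Odd (Fintype.card F)` gives `(2 : F) ≠ 0`
(e.g. via `FiniteField.even_card_of_char_two` / `ringChar`); helper18's `Lib/Helper18/SL2Dec.lean` has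
related lemmas (`sl2_center_uniq`).
-/

set_option autoImplicit false

namespace Cfsg.Agent.Lib.Helper26.FW

theorem S1_two_ne_zero {F : Type*} [Field F] [Fintype F] (hF : Odd (Fintype.card F)) :
    (2 : F) ≠ 0 := by
  intro h
  have h2 : ringChar F = 2 := by
    have hd : ringChar F ∣ 2 := (ringChar.spec F 2).mp (by exact_mod_cast h)
    rcases (Nat.dvd_prime Nat.prime_two).mp hd with h1 | h1
    · exact absurd h1 CharP.ringChar_ne_one
    · exact h1
  have h3 := FiniteField.even_card_of_char_two h2
  rcases hF with ⟨k, hk⟩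
  omega

theorem S1_entries {F : Type*} [Field F] (x : Matrix.SpecialLinearGroup (Fin 2) F) :
    (x : Matrix (Fin 2) (Fin 2) F) 0 0 * (x : Matrix (Fin 2) (Fin 2) F) 1 1 -
      (x : Matrix (Fin 2) (Fin 2) F) 0 1 * (x : Matrix (Fin 2) (Fin 2) F) 1 0 = 1 := by
  have := x.2
  rw [Matrix.det_fin_two] at this
  exact this

theorem sl2_sq_eq_one {F : Type*} [Field F] [Fintype F] (hF : Odd (Fintype.card F))
    (x : Matrix.SpecialLinearGroup (Fin 2) F) (h : x ^ 2 = 1) : x = 1 ∨ x = -1 := by
  have h2 := S1_two_ne_zero hF
  have hdet := S1_entries x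
  have hM : (x : Matrix (Fin 2) (Fin 2) F) * (x : Matrix (Fin 2) (Fin 2) F) = 1 := by
    have := congrArg Subtype.val h
    simpa [pow_two] using this
  have e00 := congrFun (congrFun hM 0) 0
  have e01 := congrFun (congrFun hM 0) 1
  have e10 := congrFun (congrFun hM 1) 0
  have e11 := congrFun (congrFun hM 1) 1
  simp only [Matrix.mul_apply, Fin.sum_univ_two, Matrix.one_apply_eq, Matrix.one_apply_ne,
    ne_eq, zero_ne_one, one_ne_zero, not_false_eq_true, Fin.isValue] at e00 e01 e10 e11
  set p := (x : Matrix (Fin 2) (Fin 2) F) 0 0 with hp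
  set r := (x : Matrix (Fin 2) (Fin 2) F) 0 1 with hr
  set s := (x : Matrix (Fin 2) (Fin 2) F) 1 0 with hs
  set u := (x : Matrix (Fin 2) (Fin 2) F) 1 1 with hu
  have hpu : p + u ≠ 0 := by
    intro h0
    have hu' : u = -p := by linear_combination h0
    apply h2
    have : (2 : F) = 0 := by
      rw [hu'] at hdet
      linear_combination -e00 - hdet
    exact this
  have hr0 : r = 0 := by
    have : (p + u) * r = 0 := by linear_combination e01
    rcases mul_eq_zero.mp this with h0 | h0
    · exact absurd h0 hpu
    · exact h0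
  have hs0 : s = 0 := by
    have : (p + u) * s = 0 := by linear_combination e10
    rcases mul_eq_zero.mp this with h0 | h0
    · exact absurd h0 hpu
    · exact h0
  rw [hr0, hs0] at e00 e11 hdet
  have hpp : (p - 1) * (p + 1) = 0 := by linear_combination e00
  rcases mul_eq_zero.mp hpp with h1 | h1
  · left
    have hp1 : p = 1 := by linear_combination h1
    have hu1 : u = 1 := by rw [hp1] at hdet; linear_combination hdet
    apply Subtype.ext
    ext i j
    fin_cases i <;> fin_cases j
    · simpa using hp1
    · simpa using hr0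
    · simpa using hs0
    · simpa using hu1
  · right
    have hp1 : p = -1 := by linear_combination h1
    have hu1 : u = -1 := by rw [hp1] at hdet; linear_combination -hdet
    apply Subtype.ext
    rw [Matrix.SpecialLinearGroup.coe_neg, Matrix.SpecialLinearGroup.coe_one]
    ext i j
    fin_cases i <;> fin_cases j
    · simpa using hp1
    · simpa using hr0
    · simpa using hs0
    · simpa using hu1

theorem sl2_neg_one_ne_one {F : Type*} [Field F] [Fintype F] (hF : Odd (Fintype.card F)) :
    (-1 : Matrix.SpecialLinearGroup (Fin 2) F) ≠ 1 := by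
  intro h
  have h2 := S1_two_ne_zero hF
  have := congrArg (fun y : Matrix.SpecialLinearGroup (Fin 2) F => (y : Matrix (Fin 2) (Fin 2) F) 0 0) h
  simp only [Matrix.SpecialLinearGroup.coe_neg, Matrix.SpecialLinearGroup.coe_one, Matrix.neg_apply,
    Matrix.one_apply_eq] at this
  apply h2
  linear_combination -this

end Cfsg.Agent.Lib.Helper26.FW
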