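import Mathlib

/-!
S3211 farm (helper26) leaf S2. Fill the `sorry`; keep the statement verbatim.
SL(2,F), F finite of odd order: the elements with x^2 = -1 form a single conjugacy class.
Sketch: it suffices to conjugate any such x to J = !![0, -1; 1, 0] inside SL(2,F).
x = !![p, r; s, u], det 1, x^2 = -1 forces u = -p (trace 0: from x^2 - (tr x) x + 1 = 0 get (tr x) x = 0)
and p^2 + r s = -1.  For a vector v with v, x v independent, g0 = [v | x v] (columns) satisfies
g0 J g0^-1 = x, i.e. x g0 = g0 J, and d = det g0 ≠ 0: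
  v = (1,0): g0 = !![1, p; 0, s], d = s;   v = (0,1): g0 = !![0, r; 1, -p], d = -r;
  if r = s = 0 (so p^2 = -1): v = (1,1): g0 = !![1, p; 1, -p], d = -2 p ≠ 0.
Every h = a + b J = !![a, -b; b, a] commutes with J and det h = a^2 + b^2; over a finite field every
element is a sum of two squares (`FiniteField.exists_root_sum_quadratic`, or `FiniteField.isSquare...`),
so pick a, b with a^2 + b^2 = d^-1; then g = g0 h ∈ SL(2,F) and g J g^-1 = x.
-/

set_option autoImplicit false

namespace Cfsg.Agent.Lib.Helper26.FW

theorem S2_exists_sq_add_sq {F : Type*} [Field F] [Fintype F] (hF : Odd (Fintype.card F)) (c : F) :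
    ∃ a b : F, a ^ 2 + b ^ 2 = c := by
  classical
  obtain ⟨a, b, hab⟩ := FiniteField.exists_root_sum_quadratic (R := F)
    (f := Polynomial.X ^ 2) (g := Polynomial.X ^ 2 - Polynomial.C c)
    (Polynomial.degree_X_pow 2) (Polynomial.degree_X_pow_sub_C (by decide) c)
    (Nat.odd_iff.1 hF)
  refine ⟨a, b, ?_⟩
  simp only [Polynomial.eval_pow, Polynomial.eval_X, Polynomial.eval_sub, Polynomial.eval_C] at hab
  linear_combination hab

/-- the standard element of order 4 -/
def S2_J (F : Type*) [Field F] : Matrix.SpecialLinearGroup (Fin 2) F :=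
  ⟨!![0, -1; 1, 0], by simp [Matrix.det_fin_two]⟩

theorem S2_two_ne_zero {F : Type*} [Field F] [Fintype F] (hF : Odd (Fintype.card F)) : (2 : F) ≠ 0 := by
  intro h2
  have hchar : ringChar F = 2 := by
    have : ringChar F ∣ 2 := by
      apply ringChar.dvd
      exact_mod_cast h2
    rcases (Nat.dvd_prime Nat.prime_two).1 this with h | h
    · exfalso
      have := CharP.ringChar_ne_one (R := F)
      exact this h
    · exact h
  have hdvd : ringChar F ∣ Fintype.card F := by
    obtain ⟨n, hp, hc⟩ := FiniteField.card F (ringChar F)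
    rw [hc]
    exact dvd_pow_self _ n.ne_zero
  rw [hchar] at hdvd
  exact (Nat.not_even_iff_odd.2 hF) (even_iff_two_dvd.2 hdvd)

theorem S2_mk_eq {F : Type*} {a b c d a' b' c' d' : F} (h1 : a = a') (h2 : b = b') (h3 : c = c')
    (h4 : d = d') : !![a, b; c, d] = !![a', b'; c', d'] := by
  subst h1 h2 h3 h4; rfl

/-- key matrix lemma: a trace-zero determinant-one matrix is conjugate to `J` by a determinant-one matrix -/
theorem S2_exists_matrix {F : Type*} [Field F] [Fintype F] (hF : Odd (Fintype.card F))
    (p r s : F) (h : p * p + r * s = -1) :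
    ∃ G : Matrix (Fin 2) (Fin 2) F, G.det = 1 ∧ !![p, r; s, -p] * G = G * !![0, -1; 1, 0] := by
  have h2 := S2_two_ne_zero hF
  by_cases hs : s = 0
  · by_cases hr : r = 0
    · -- r = s = 0, p² = -1
      subst hs hr
      have hp2 : p * p = -1 := by linear_combination h
      have hp : p ≠ 0 := by
        rintro rfl
        have : (0 : F) = -1 := by linear_combination hp2
        exact one_ne_zero (by linear_combination this)
      have hd : -2 * p ≠ 0 := mul_ne_zero (neg_ne_zero.2 h2) hp
      obtain ⟨a, b, hab⟩ := S2_exists_sq_add_sq hF (-2 * p)⁻¹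
      refine ⟨!![a + p * b, -b + p * a; a - p * b, -b - p * a], ?_, ?_⟩
      · rw [Matrix.det_fin_two_of]
        have : (-2 * p) * (a ^ 2 + b ^ 2) = 1 := by rw [hab]; exact mul_inv_cancel₀ hd
        linear_combination this
      · rw [Matrix.mul_fin_two, Matrix.mul_fin_two]
        apply S2_mk_eq
        · linear_combination b * hp2
        · linear_combination a * hp2
        · linear_combination b * hp2
        · linear_combination a * hp2
    · -- r ≠ 0
      obtain ⟨a, b, hab⟩ := S2_exists_sq_add_sq hF (-r)⁻¹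
      have hd : -r ≠ 0 := neg_ne_zero.2 hr
      refine ⟨!![r * b, r * a; a - p * b, -b - p * a], ?_, ?_⟩
      · rw [Matrix.det_fin_two_of]
        have : (-r) * (a ^ 2 + b ^ 2) = 1 := by rw [hab]; exact mul_inv_cancel₀ hd
        linear_combination this
      · rw [Matrix.mul_fin_two, Matrix.mul_fin_two]
        apply S2_mk_eq
        · ring
        · ring
        · linear_combination b * h
        · linear_combination a * h
  · obtain ⟨a, b, hab⟩ := S2_exists_sq_add_sq hF s⁻¹
    refine ⟨!![a + p * b, -b + p * a; s * b, s * a], ?_, ?_⟩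
    · rw [Matrix.det_fin_two_of]
      have : s * (a ^ 2 + b ^ 2) = 1 := by rw [hab]; exact mul_inv_cancel₀ hs
      linear_combination this
    · rw [Matrix.mul_fin_two, Matrix.mul_fin_two]
      apply S2_mk_eq
      · linear_combination b * h
      · linear_combination a * h
      · ring
      · ring

/-- every `x` with `x² = -1` is conjugate to `J` -/
theorem S2_conj_J {F : Type*} [Field F] [Fintype F] (hF : Odd (Fintype.card F))
    (x : Matrix.SpecialLinearGroup (Fin 2) F) (hx : x ^ 2 = -1) :
    ∃ g : Matrix.SpecialLinearGroup (Fin 2) F, x * g = g * S2_J F := by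
  have h2 := S2_two_ne_zero hF
  set X : Matrix (Fin 2) (Fin 2) F := (x : Matrix (Fin 2) (Fin 2) F) with hX
  have hdet : X 0 0 * X 1 1 - X 0 1 * X 1 0 = 1 := by
    have := x.2
    rw [Matrix.det_fin_two] at this
    exact this
  have hsq : X * X = -1 := by
    have h1 : ((x ^ 2 : Matrix.SpecialLinearGroup (Fin 2) F) : Matrix (Fin 2) (Fin 2) F) = -1 := by
      rw [hx]; simp
    rw [pow_two] at h1
    simpa using h1
  have e00 : X 0 0 * X 0 0 + X 0 1 * X 1 0 = -1 := by
    have := congrFun (congrFun hsq 0) 0
    simpa [Matrix.mul_apply, Fin.sum_univ_two] using this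
  have e01 : X 0 0 * X 0 1 + X 0 1 * X 1 1 = 0 := by
    have := congrFun (congrFun hsq 0) 1
    simpa [Matrix.mul_apply, Fin.sum_univ_two] using this
  have e10 : X 1 0 * X 0 0 + X 1 1 * X 1 0 = 0 := by
    have := congrFun (congrFun hsq 1) 0
    simpa [Matrix.mul_apply, Fin.sum_univ_two] using this
  have e11 : X 1 0 * X 0 1 + X 1 1 * X 1 1 = -1 := by
    have := congrFun (congrFun hsq 1) 1
    simpa [Matrix.mul_apply, Fin.sum_univ_two] using this
  -- trace zero
  have htr : X 1 1 = - X 0 0 := by
    by_contra hne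
    have ht : X 0 0 + X 1 1 ≠ 0 := by
      intro h0
      apply hne
      linear_combination h0
    have hr : X 0 1 = 0 := by
      have : X 0 1 * (X 0 0 + X 1 1) = 0 := by linear_combination e01
      rcases mul_eq_zero.1 this with h | h
      · exact h
      · exact absurd h ht
    have hs : X 1 0 = 0 := by
      have : X 1 0 * (X 0 0 + X 1 1) = 0 := by linear_combination e10
      rcases mul_eq_zero.1 this with h | h
      · exact h
      · exact absurd h ht
    have hpu : X 0 0 = X 1 1 := by
      have : (X 0 0 - X 1 1) * (X 0 0 + X 1 1) = 0 := by linear_combination e00 - e11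
      rcases mul_eq_zero.1 this with h | h
      · linear_combination h
      · exact absurd h ht
    -- det = p² = 1 but p² = -1
    have h1 : X 0 0 * X 0 0 = 1 := by
      rw [hr, hs, ← hpu] at hdet
      linear_combination hdet
    have h3 : X 0 0 * X 0 0 = -1 := by
      rw [hr, hs] at e00
      linear_combination e00
    apply h2
    linear_combination h3 - h1
  have hrel : X 0 0 * X 0 0 + X 0 1 * X 1 0 = -1 := e00
  obtain ⟨G, hG1, hG2⟩ := S2_exists_matrix hF (X 0 0) (X 0 1) (X 1 0) hrel
  refine ⟨⟨G, hG1⟩, ?_⟩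
  apply Subtype.ext
  show X * G = G * !![0, -1; 1, 0]
  rw [← hG2]
  congr 1
  rw [Matrix.eta_fin_two X, htr]
  simp

theorem sl2_conj_of_sq_eq_neg_one {F : Type*} [Field F] [Fintype F] (hF : Odd (Fintype.card F))
    (x y : Matrix.SpecialLinearGroup (Fin 2) F) (hx : x ^ 2 = -1) (hy : y ^ 2 = -1) :
    ∃ g : Matrix.SpecialLinearGroup (Fin 2) F, g * x * g⁻¹ = y := by
  obtain ⟨gx, hgx⟩ := S2_conj_J hF x hx
  obtain ⟨gy, hgy⟩ := S2_conj_J hF y hy
  refine ⟨gy * gx⁻¹, ?_⟩
  have h1 : x = gx * S2_J F * gx⁻¹ := by rw [← hgx]; group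
  have h2 : y = gy * S2_J F * gy⁻¹ := by rw [← hgy]; group
  rw [h1, h2]
  group

end Cfsg.Agent.Lib.Helper26.FW
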