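import Mathlib

/-!
S3211 farm (helper26) leaf S3. Fill the `sorry`; keep the statement verbatim.
SL(2,F), char F ≠ 2: an element a with a^2 = -1 has at most two square roots, x and -x.
Sketch (Cayley-Hamilton for 2x2, det 1): x^2 = (tr x) x - 1.  If x^2 = a then (tr x) x = a + 1; tr x ≠ 0
(else a = -1 and a^2 = 1 ≠ -1); taking traces (tr a = 0 since a^2 = -1, see leaf S2) (tr x)^2 = 2.  Same for
x': (tr x')^2 = 2 so tr x' = ± tr x and x' = (a + 1)/(tr x') = ± x.  Entrywise computation also works.
-/

set_option autoImplicit false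

namespace Cfsg.Agent.Lib.Helper26.FW

theorem S3_two_ne_zero {F : Type*} [Field F] [Fintype F] (hF : Odd (Fintype.card F)) :
    (2 : F) ≠ 0 := by
  intro h
  have h2 : ringChar F = 2 := by
    have hd : ringChar F ∣ 2 := (ringChar.spec F 2).mp (by exact_mod_cast h)
    rcases (Nat.dvd_prime Nat.prime_two).mp hd with h1 | h1
    · exact absurd h1 CharP.ringChar_ne_one
    · exact h1
  have h3 := FiniteField.even_card_of_char_two h2
  rcases hF with ⟨k, hk⟩
  omega

/-- Cayley-Hamilton for a `2 × 2` matrix of determinant one. -/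
theorem S3_cayley {F : Type*} [Field F] (M : Matrix (Fin 2) (Fin 2) F) (hM : M.det = 1) :
    M * M = (M 0 0 + M 1 1) • M - 1 := by
  rw [Matrix.det_fin_two] at hM
  ext i j
  fin_cases i <;> fin_cases j <;>
    simp [Matrix.mul_apply, Fin.sum_univ_two] <;>
    first
      | ring1
      | linear_combination -hM

theorem sl2_sqrt_unique {F : Type*} [Field F] [Fintype F] (hF : Odd (Fintype.card F))
    (a x x' : Matrix.SpecialLinearGroup (Fin 2) F) (ha : a ^ 2 = -1) (hx : x ^ 2 = a)
    (hx' : x' ^ 2 = a) : x' = x ∨ x' = x * -1 := by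
  have h2 := S3_two_ne_zero hF
  set A : Matrix (Fin 2) (Fin 2) F := (a : Matrix (Fin 2) (Fin 2) F) with hA
  set X : Matrix (Fin 2) (Fin 2) F := (x : Matrix (Fin 2) (Fin 2) F) with hX
  set X' : Matrix (Fin 2) (Fin 2) F := (x' : Matrix (Fin 2) (Fin 2) F) with hX'
  have hAA : A * A = -1 := by
    have := congrArg Subtype.val ha
    simpa [pow_two] using this
  have hXX : X * X = A := by
    have := congrArg Subtype.val hx
    simpa [pow_two] using this
  have hXX' : X' * X' = A := by
    have := congrArg Subtype.val hx'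
    simpa [pow_two] using this
  have cA := S3_cayley A a.2
  have cX := S3_cayley X x.2
  have cX' := S3_cayley X' x'.2
  -- trace of `a` is zero
  have hτ : A 0 0 + A 1 1 = 0 := by
    by_contra hne
    have h0 : (A 0 0 + A 1 1) • A = 0 := by
      have : (A 0 0 + A 1 1) • A - 1 = -1 := by rw [← cA, hAA]
      have h3 : (A 0 0 + A 1 1) • A = -1 + 1 := by rw [← this]; abel
      rw [h3]; simp
    have hA0 : A = 0 := by
      rcases smul_eq_zero.mp h0 with h | h
      · exact absurd h hne
      · exact h
    have hdet : A.det = 1 := a.2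
    rw [hA0] at hdet
    simp at hdet
  -- `t • X = A + 1`
  have hX1 : (X 0 0 + X 1 1) • X = A + 1 := by
    have : (X 0 0 + X 1 1) • X - 1 = A := by rw [← cX, hXX]
    rw [← this]; abel
  have hX1' : (X' 0 0 + X' 1 1) • X' = A + 1 := by
    have : (X' 0 0 + X' 1 1) • X' - 1 = A := by rw [← cX', hXX']
    rw [← this]; abel
  set t := X 0 0 + X 1 1 with ht
  set t' := X' 0 0 + X' 1 1 with ht'
  have htt : t * t = 2 := by
    have e0 := congrFun (congrFun hX1 0) 0
    have e1 := congrFun (congrFun hX1 1) 1
    simp only [Matrix.smul_apply, Matrix.add_apply, Matrix.one_apply_eq, smul_eq_mul] at e0 e1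
    linear_combination e0 + e1 + hτ
  have htt' : t' * t' = 2 := by
    have e0 := congrFun (congrFun hX1' 0) 0
    have e1 := congrFun (congrFun hX1' 1) 1
    simp only [Matrix.smul_apply, Matrix.add_apply, Matrix.one_apply_eq, smul_eq_mul] at e0 e1
    linear_combination e0 + e1 + hτ
  have ht0 : t ≠ 0 := by
    intro h0
    rw [h0] at htt
    apply h2
    rw [← htt]; ring
  have hcases : (t' - t) * (t' + t) = 0 := by linear_combination htt' - htt
  have hsm : t' • X' = t • X := by rw [hX1, hX1']
  rcases mul_eq_zero.mp hcases with h | h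
  · left
    have htt2 : t' = t := by linear_combination h
    rw [htt2] at hsm
    have hXe : X' = X := smul_right_injective _ ht0 hsm
    exact Subtype.ext hXe
  · right
    have htt2 : t' = -t := by linear_combination h
    rw [htt2] at hsm
    have hXe : -X' = X := by
      apply smul_right_injective _ ht0
      show t • (-X') = t • X
      rw [← hsm]; simp
    apply Subtype.ext
    rw [Matrix.SpecialLinearGroup.coe_mul, Matrix.SpecialLinearGroup.coe_neg,
      Matrix.SpecialLinearGroup.coe_one]
    show X' = X * -1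
    rw [← hXe]; simp

end Cfsg.Agent.Lib.Helper26.FW
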