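import Mathlib
import Cfsg.Agent.Lib.Helper26.FW.S1
import Cfsg.Agent.Lib.Helper26.FW.S2
import Cfsg.Agent.Lib.Helper26.FW.S3

/-!
S3211 farm (helper26) leaf T1. Fill the `sorry`; keep the statement verbatim.
Transport of the three SL(2,F) facts (leaves S1, S2, S3) to a subgroup L ≅ SL(2,F) of G with a marked
involution j ∈ L.  Sketch: e ⟨j, hjL⟩ has square 1 and is ≠ 1 (orderOf j = 2), so it is -1 (`sl2_sq_eq_one`).
For x ∈ L write X = e ⟨x, _⟩; x^2 = 1 iff X^2 = 1; x^2 = j iff X^2 = -1; pull conjugators back through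
e.symm.
-/

set_option autoImplicit false

namespace Cfsg.Agent.Lib.Helper26.FW

theorem sl2_transport {G : Type*} [Group G] {F : Type*} [Field F] [Fintype F]
    (hF : Odd (Fintype.card F)) (L : Subgroup G)
    (e : ↥L ≃* Matrix.SpecialLinearGroup (Fin 2) F) (j : G) (hj : orderOf j = 2) (hjL : j ∈ L) :
    (∀ x ∈ L, x ^ 2 = 1 → x = 1 ∨ x = j) ∧
    (∀ x ∈ L, ∀ y ∈ L, x ^ 2 = j → y ^ 2 = j → ∃ g ∈ L, g * x * g⁻¹ = y) ∧
    (∀ a ∈ L, ∀ x ∈ L, ∀ x' ∈ L, a ^ 2 = j → x ^ 2 = a → x' ^ 2 = a → x' = x ∨ x' = x * j) := by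
  have hj2 : j ^ 2 = 1 := by
    rw [← hj]
    exact pow_orderOf_eq_one j
  have hj1 : j ≠ 1 := by
    intro h
    rw [h, orderOf_one] at hj
    omega
  have hjL2 : (⟨j, hjL⟩ : ↥L) ^ 2 = 1 := Subtype.ext hj2
  have hjL1 : (⟨j, hjL⟩ : ↥L) ≠ 1 := fun h => hj1 (congrArg Subtype.val h)
  have hej : e ⟨j, hjL⟩ = -1 := by
    have h1 : (e ⟨j, hjL⟩) ^ 2 = 1 := by rw [← map_pow, hjL2, map_one]
    rcases sl2_sq_eq_one hF _ h1 with h | h
    · exfalso
      apply hjL1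
      apply e.injective
      rw [h, map_one]
    · exact h
  have hsq : ∀ (x : G) (hx : x ∈ L) (y : G) (hy : y ∈ L), x ^ 2 = y →
      (e ⟨x, hx⟩) ^ 2 = e ⟨y, hy⟩ := by
    intro x hx y hy h
    rw [← map_pow]
    congr 1
    exact Subtype.ext h
  refine ⟨?_, ?_, ?_⟩
  · intro x hx hx2
    have h1 : (e ⟨x, hx⟩) ^ 2 = 1 := by
      rw [hsq x hx 1 L.one_mem hx2]
      exact map_one e
    rcases sl2_sq_eq_one hF _ h1 with h | h
    · left
      have h2 : (⟨x, hx⟩ : ↥L) = 1 := e.injective (by rw [h, map_one])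
      exact congrArg Subtype.val h2
    · right
      have h2 : (⟨x, hx⟩ : ↥L) = ⟨j, hjL⟩ := e.injective (by rw [h, hej])
      exact congrArg Subtype.val h2
  · intro x hx y hy hx2 hy2
    have h1 : (e ⟨x, hx⟩) ^ 2 = -1 := by rw [hsq x hx j hjL hx2, hej]
    have h2 : (e ⟨y, hy⟩) ^ 2 = -1 := by rw [hsq y hy j hjL hy2, hej]
    obtain ⟨g, hg⟩ := sl2_conj_of_sq_eq_neg_one hF _ _ h1 h2
    refine ⟨(e.symm g : ↥L), (e.symm g).2, ?_⟩
    have h3 : e.symm g * ⟨x, hx⟩ * (e.symm g)⁻¹ = (⟨y, hy⟩ : ↥L) := by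
      apply e.injective
      rw [map_mul, map_mul, map_inv, MulEquiv.apply_symm_apply, hg]
    exact congrArg Subtype.val h3
  · intro a ha x hx x' hx' ha2 hx2 hx'2
    have h1 : (e ⟨a, ha⟩) ^ 2 = -1 := by rw [hsq a ha j hjL ha2, hej]
    have h2 : (e ⟨x, hx⟩) ^ 2 = e ⟨a, ha⟩ := hsq x hx a ha hx2
    have h3 : (e ⟨x', hx'⟩) ^ 2 = e ⟨a, ha⟩ := hsq x' hx' a ha hx'2
    rcases sl2_sqrt_unique hF _ _ _ h1 h2 h3 with h | h
    · left
      exact congrArg Subtype.val (e.injective h)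
    · right
      have h4 : (⟨x', hx'⟩ : ↥L) = ⟨x, hx⟩ * ⟨j, hjL⟩ := by
        apply e.injective
        rw [h, map_mul, hej]
      exact congrArg Subtype.val h4

end Cfsg.Agent.Lib.Helper26.FW
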