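import Mathlib
import Cfsg.Prelude
import Cfsg.Agent.Lib.Helper9.ZStar
import Cfsg.Agent.Lib.Helper1.Cores

/-!
S3211 farm (helper26) leaf Z2. Fill the `sorry`; keep the statement verbatim.
General fact: for an isolated involution z of a finite group G, G = C_G(z) O(G).
Sketch: O := Cfsg.oddCore G = Cfsg.pPrimeCore 2 G is normal of odd order (look for existing lemmas on
`pPrimeCore` in Cfsg/Agent/Lib, e.g. Helper9 / Helper1 / H5).  By `Cfsg.Agent.Lib.Helper9.zstar hz g`,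
z g z^-1 g^-1 ∈ O for all g, so g z g^-1 ∈ z O.  In K := O ⊔ zpowers z (order 2 |O|) the subgroups
zpowers z and zpowers (g z g^-1) are Sylow 2-subgroups, hence conjugate in K: k z k^-1 = g z g^-1 with
k = o z^i, o ∈ O; so o z o^-1 = g z g^-1, o^-1 g ∈ C_G(z) and g ∈ O C_G(z).
(Filled by helper18 without Sylow: o = g z g^-1 z^-1 ∈ O is inverted by z and has odd order, so o = u^2
with u a power of o, and u z u^-1 = u^2 z = g z g^-1.)
-/

set_option autoImplicit false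

namespace Cfsg.Agent.Lib.Helper26.FW

theorem centralizer_sup_oddCore_of_isolated {G : Type*} [Group G] [Finite G] (z : G)
    (hz : Cfsg.IsIsolatedInvolution z) :
    Subgroup.centralizer ({z} : Set G) ⊔ Cfsg.oddCore G = ⊤ := by
  have hcop : (Nat.card (Cfsg.pPrimeCore 2 G)).Coprime 2 :=
    Cfsg.Agent.Lib.Helper1.pPrimeCore_coprime 2
  have hz2 : z * z = 1 := by
    have := pow_orderOf_eq_one z
    rw [hz.1, pow_two] at this
    exact this
  have hzinv : z⁻¹ = z := inv_eq_of_mul_eq_one_right hz2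
  rw [eq_top_iff]
  intro g _
  have ho : g * z * g⁻¹ * z⁻¹ ∈ Cfsg.pPrimeCore 2 G := by
    have h := Cfsg.Agent.Lib.Helper9.zstar hz g
    have h' := Subgroup.inv_mem _ h
    have e : (z * g * z⁻¹ * g⁻¹)⁻¹ = g * z * g⁻¹ * z⁻¹ := by group
    rw [e] at h'
    exact h'
  -- `z` inverts `o`
  have hinv : z * (g * z * g⁻¹ * z⁻¹) * z⁻¹ = (g * z * g⁻¹ * z⁻¹)⁻¹ := by
    have e1 : (g * z * g⁻¹ * z⁻¹)⁻¹ = z * g * z⁻¹ * g⁻¹ := by group
    rw [e1, hzinv]
    calc z * (g * z * g⁻¹ * z) * z = z * g * z * g⁻¹ * (z * z) := by group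
      _ = z * g * z * g⁻¹ := by rw [hz2, mul_one]
  obtain ⟨o, hodef⟩ : ∃ o, o = g * z * g⁻¹ * z⁻¹ := ⟨_, rfl⟩
  rw [← hodef] at ho hinv
  have hgz : g * z * g⁻¹ = o * z := by
    rw [hodef]
    group
  -- `o` has odd order
  have hodd : Odd (orderOf o) := by
    have h1 : orderOf (⟨o, ho⟩ : ↥(Cfsg.pPrimeCore 2 G)) ∣ Nat.card ↥(Cfsg.pPrimeCore 2 G) :=
      orderOf_dvd_natCard _
    have h2 : orderOf (⟨o, ho⟩ : ↥(Cfsg.pPrimeCore 2 G)) = orderOf o := Subgroup.orderOf_mk o ho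
    rw [h2] at h1
    exact Nat.coprime_two_right.mp (Nat.Coprime.coprime_dvd_left h1 hcop)
  obtain ⟨r, hr⟩ := hodd
  -- a square root `u` of `o`, a power of `o`
  have hu2 : o ^ (r + 1) * o ^ (r + 1) = o := by
    rw [← pow_add]
    have h1 : r + 1 + (r + 1) = orderOf o + 1 := by omega
    rw [h1, pow_succ, pow_orderOf_eq_one, one_mul]
  have huO : o ^ (r + 1) ∈ Cfsg.pPrimeCore 2 G := Subgroup.pow_mem _ ho _
  have huinv : z * o ^ (r + 1) * z⁻¹ = (o ^ (r + 1))⁻¹ := by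
    rw [← conj_pow, hinv, inv_pow]
  generalize o ^ (r + 1) = u at hu2 huO huinv
  have huinv' : z * u⁻¹ * z⁻¹ = u := by
    have h1 := congrArg (fun t => t⁻¹) huinv
    simp only [mul_inv_rev, inv_inv] at h1
    rw [mul_assoc]
    exact h1
  have hconj : u * z * u⁻¹ = g * z * g⁻¹ := by
    rw [hgz, ← hu2]
    calc u * z * u⁻¹ = u * (z * u⁻¹ * z⁻¹) * z := by group
      _ = u * u * z := by rw [huinv']
  have hc : u⁻¹ * g ∈ Subgroup.centralizer ({z} : Set G) := by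
    rw [Subgroup.mem_centralizer_iff]
    intro h hh
    rw [Set.mem_singleton_iff] at hh
    subst hh
    have e : h = u⁻¹ * (u * h * u⁻¹) * u := by group
    calc h * (u⁻¹ * g) = u⁻¹ * (u * h * u⁻¹) * u * (u⁻¹ * g) := by rw [← e]
      _ = u⁻¹ * (g * h * g⁻¹) * u * (u⁻¹ * g) := by rw [hconj]
      _ = u⁻¹ * g * h := by group
  have hg : g = (u⁻¹ * g) * (g⁻¹ * u * g) := by group
  rw [hg]
  apply Subgroup.mul_mem_sup hc
  have hn : (Cfsg.pPrimeCore 2 G).Normal := Cfsg.Agent.Lib.Helper1.pPrimeCore_normal 2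
  have := hn.conj_mem u huO g⁻¹
  rw [inv_inv] at this
  exact this

end Cfsg.Agent.Lib.Helper26.FW
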