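import Mathlib
import Cfsg.Prelude
import Cfsg.Agent.Lib.Helper26.FW.Star
import Cfsg.Agent.Lib.Helper26.FW.T1
import Cfsg.Agent.Lib.Helper26.FW.Z2

/-!
S3211 farm (helper26): final assembly.
-/

set_option autoImplicit false

namespace Cfsg.Agent.Lib.Helper26.FW

theorem main {G : Type*} [Group G] [Finite G]
    {F₁ : Type*} [Field F₁] [Fintype F₁] {F₂ : Type*} [Field F₂] [Fintype F₂]
    (hF₁ : Odd (Fintype.card F₁)) (hF₂ : Odd (Fintype.card F₂)) (L₁ L₂ : Subgroup G)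
    (e₁ : ↥L₁ ≃* Matrix.SpecialLinearGroup (Fin 2) F₁) (e₂ : ↥L₂ ≃* Matrix.SpecialLinearGroup (Fin 2) F₂)
    (hc : ∀ x ∈ L₁, ∀ y ∈ L₂, x * y = y * x) (j : G) (hj : orderOf j = 2) (hm : L₁ ⊓ L₂ = Subgroup.zpowers j)
    (hle : L₁ ⊔ L₂ ≤ Subgroup.centralizer ({j} : Set G)) (hi : (L₁ ⊔ L₂).relIndex (Subgroup.centralizer ({j} : Set G)) = 2) (n : G) (hn : n ∈ Subgroup.centralizer ({j} : Set G))
    (hn2 : n ^ 2 = j) (hswap : L₁.map (MulAut.conj n).toMonoidHom = L₂) :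
    Subgroup.centralizer ({j} : Set G) ⊔ Cfsg.oddCore G = ⊤ := by
  have hjL : j ∈ L₁ ⊓ L₂ := by rw [hm]; exact Subgroup.mem_zpowers j
  obtain ⟨i1, c1, s1⟩ := sl2_transport hF₁ L₁ e₁ j hj hjL.1
  obtain ⟨i2, _, s2⟩ := sl2_transport hF₂ L₂ e₂ j hj hjL.2
  let c : Ctx G :=
    { L₁ := L₁, L₂ := L₂, j := j, n := n, hj := hj, hc := hc, hm := hm, hle := hle, hi := hi,
      hn := hn, hn2 := hn2, hswap := hswap, inv₁ := i1, inv₂ := i2, conj₁ := c1, sqrt₁ := s1,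
      sqrt₂ := s2 }
  exact centralizer_sup_oddCore_of_isolated j c.isolated

end Cfsg.Agent.Lib.Helper26.FW
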